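import Cfsg.Agent.Lib.ThreeTransp.SURadical.Local
import Cfsg.Agent.Lib.ThreeTransp.Core
import Cfsg.Agent.Lib.Cores.Components

/-!
# The 2-radical of a 3-transposition group over `SUₙ(2)`

If a group generated by a class of 3-transpositions with trivial centre maps onto `SUₙ(2)`, `n ≥ 4`, with
a 2-group as kernel, then the kernel is elementary abelian.
-/

set_option autoImplicit false

namespace CfsgLib.SURadical

open Cfsg
open CfsgLib.PSUAut
open CfsgLib.ThreeTransp (IsTT isTT_of_class pow_three_eq_one)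

variable {F : Type} [Field F] [Fintype F] {n : ℕ}

local notation "Vn" => Fin n → F
local notation "hh" => Cfsg.hermForm n F 2
local notation "SUn" => (Cfsg.SU n F 2)

/-- Any two points are conjugate. -/
theorem IsPt.exists_conj (hF : Fintype.card F = 2 ^ 2) {x y : SUn} {u v : Vn} (hx : IsPt x u) (hy : IsPt y v) :
    ∃ g : SUn, g * x * g⁻¹ = y := by
  have key : ∀ {x y : SUn} {u v : Vn}, IsPt x u → IsPt y v → hh u v ≠ 0 → ∃ g : SUn, g * x * g⁻¹ = y := by
    intro x y u v hx hy huv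
    obtain ⟨g, a, ha, -, hg⟩ := exists_swap hF hx.1 hy.1 huv
    exact ⟨g, IsPt.unique hF (hx.conj g) (hg ▸ hy.smul hF ha)⟩
  have hW : ∀ y : Vn, InW (Fin.elim0 : Fin 0 → Vn) y := fun _ i => i.elim0
  obtain ⟨z, hz, -, hzu, hzv⟩ := exists_avoidW hF (Ortho.nil Fin.elim0) hx.1 (hW u) hy.1 (hW v)
  obtain ⟨w, hw⟩ := exists_pt hF hz
  obtain ⟨g₁, hg₁⟩ := key hx hw fun h => hzu ((comm_zero hF).1 h)
  obtain ⟨g₂, hg₂⟩ := key hw hy hzv
  exact ⟨g₂ * g₁, by rw [← hg₂, ← hg₁]; group⟩

/-- The situation. -/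
structure Setting {G : Type*} [Group G] (D : Set G) (pr : G →* SUn) : Prop where
  field : Fintype.card F = 2 ^ 2
  dim : 4 ≤ n
  tt : IsTT D
  gen : Subgroup.closure D = ⊤
  center : Subgroup.center G = ⊥
  surj : Function.Surjective pr
  two : IsPGroup 2 pr.ker
  pt : ∀ d ∈ D, ∃ v, IsPt (pr d) v
  lift : ∀ x v, IsPt x v → ∃ d ∈ D, pr d = x

variable {G : Type*} [Group G] [Finite G] {D : Set G}

/-- The setting obtained from an isomorphism of `G ⧸ O₂(G)` with `SUₙ(2)`. -/
theorem setting_of_iso (hF : Fintype.card F = 2 ^ 2) (hn : 4 ≤ n) (hD : Cfsg.IsThreeTranspositionClass D)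
    (hZ : Subgroup.center G = ⊥) (e : G ⧸ Cfsg.pCore 2 G ≃* SUn) :
    ∃ pr : G →* SUn, pr.ker = Cfsg.pCore 2 G ∧ Setting D pr := by
  let pr : G →* SUn := e.toMonoidHom.comp (QuotientGroup.mk' (Cfsg.pCore 2 G))
  have hsurj : Function.Surjective pr := e.surjective.comp (QuotientGroup.mk'_surjective _)
  have hker : pr.ker = Cfsg.pCore 2 G := by
    ext g
    simp [pr]
  have htt := isTT_of_class hD
  obtain ⟨-, ⟨d₀, hd₀, hcl⟩, hgen⟩ := hD
  have hne : ∀ d ∈ D, pr d ≠ 1 := by
    intro d hd h1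
    have h0 : pr d₀ = 1 := by
      rw [hcl] at hd
      obtain ⟨g, hg⟩ := isConj_iff.1 (show IsConj d₀ d from hd)
      rw [← hg, map_mul, map_mul, map_inv] at h1
      simpa [mul_inv_eq_one] using h1
    have hall : Subgroup.closure D ≤ pr.ker := by
      rw [Subgroup.closure_le, hcl]
      intro y hy
      obtain ⟨g, hg⟩ := isConj_iff.1 (show IsConj d₀ y from hy)
      simp [← hg, h0]
    obtain ⟨u, hu, -⟩ := exists_iso hF (Ortho.nil (n := n) (F := F) Fin.elim0) (by omega)
    obtain ⟨x, hx⟩ := exists_pt hF hu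
    obtain ⟨g, hg⟩ := hsurj x
    rw [hgen] at hall
    exact hx.ne_one hF (by rw [← hg]; exact hall (Subgroup.mem_top g))
  have hpt : ∀ d ∈ D, ∃ v, IsPt (pr d) v := by
    intro d hd
    refine exists_isPt_of_class hF (C := pr '' D) ?_ ?_ ?_ ?_ ⟨d, hd, rfl⟩
    · rintro _ ⟨a, ha, rfl⟩
      rw [← map_mul, htt.sq a ha, map_one]
    · rintro _ ⟨a, ha, rfl⟩
      exact hne a ha
    · rintro g _ ⟨a, ha, rfl⟩
      obtain ⟨g', rfl⟩ := hsurj g
      exact ⟨_, htt.conj g' a ha, by rw [map_mul, map_mul, map_inv]⟩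
    · rintro _ ⟨a, ha, rfl⟩ _ ⟨b, hb, rfl⟩
      rcases htt.cond a ha b hb with h | h
      · exact Or.inl (h.map pr)
      · exact Or.inr (by rw [← map_mul, ← map_pow, pow_three_eq_one (htt.sq a ha) (htt.sq b hb) h, map_one])
  refine ⟨pr, hker, hF, hn, htt, hgen, hZ, hsurj, hker ▸ CfsgLib.Cores.isPGroup_pCore 2, hpt, ?_⟩
  intro x v hx
  obtain ⟨u, hu⟩ := hpt d₀ hd₀
  obtain ⟨g, hg⟩ := hu.exists_conj hF hx
  obtain ⟨g', rfl⟩ := hsurj g
  exact ⟨_, htt.conj g' d₀ hd₀, by rw [map_mul, map_mul, map_inv, hg]⟩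

/-- The products of two lifts of `a`. -/
def diffSet (D : Set G) (pr : G →* SUn) (a : SUn) : Set G :=
  {r | ∃ d ∈ D, ∃ e ∈ D, pr d = a ∧ pr e = a ∧ r = d * e}

/-- The subgroup generated by all products of two lifts of one point. -/
def diffGroup (D : Set G) (pr : G →* SUn) : Subgroup G :=
  Subgroup.closure {r | ∃ a, r ∈ diffSet D pr a}

namespace Setting

variable {pr : G →* (Cfsg.SU n F 2)} (S : Setting D pr)
include S

theorem commute_of_map {d e : G} (hd : d ∈ D) (he : e ∈ D) (h : Commute (pr d) (pr e)) : Commute d e := by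
  by_contra hc
  have h3 : pr (d * e) ^ 3 = 1 := by
    rw [← map_pow, pow_three_eq_one (S.tt.sq d hd) (S.tt.sq e he) (S.tt.braid hd he hc), map_one]
  have h2 : pr (d * e) ^ 2 = 1 := by
    rw [map_mul, h.mul_pow, ← map_pow, ← map_pow, pow_two, pow_two, S.tt.sq d hd, S.tt.sq e he, map_one,
      one_mul]
  rw [pow_succ, h2, one_mul] at h3
  exact hc (S.tt.commute_of_mem_pGroup_two S.two hd he h3)

theorem diff_map {a : SUn} {r : G} (hr : r ∈ diffSet D pr a) : pr r = 1 := by
  obtain ⟨d, hd, e, he, hda, hea, rfl⟩ := hr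
  rw [map_mul, hda, ← hea, ← map_mul, S.tt.sq e he, map_one]

theorem diff_commute {a : SUn} {x r : G} (hx : x ∈ D) (hxa : Commute (pr x) a) (hr : r ∈ diffSet D pr a) :
    Commute x r := by
  obtain ⟨d, hd, e, he, hda, hea, rfl⟩ := hr
  exact (S.commute_of_map hx hd (hda.symm ▸ hxa)).mul_right (S.commute_of_map hx he (hea.symm ▸ hxa))

theorem diff_sq {a : SUn} {r : G} (hr : r ∈ diffSet D pr a) : r * r = 1 := by
  obtain ⟨d, hd, e, he, hda, hea, rfl⟩ := hr
  have h := S.commute_of_map hd he (by rw [hda, hea])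
  rw [show d * e * (d * e) = d * (e * d) * e by group, ← h.eq,
    show d * (d * e) * e = (d * d) * (e * e) by group, S.tt.sq d hd, S.tt.sq e he, one_mul]

theorem pts_generate : Subgroup.closure {x : SUn | ∃ v, IsPt x v} = ⊤ := by
  rw [eq_top_iff, ← MonoidHom.range_eq_top.2 S.surj, MonoidHom.range_eq_map, ← S.gen, MonoidHom.map_closure]
  refine Subgroup.closure_mono ?_
  rintro _ ⟨d, hd, rfl⟩
  exact S.pt d hd

/-- Non-commuting points: the lifts of the points commuting with one of them generate. -/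
theorem near_generate {a b : SUn} {u v : Vn} (ha : IsPt a u) (hb : IsPt b v) (hab : ¬ Commute a b) :
    Subgroup.closure {x | x ∈ D ∧ (Commute (pr x) a ∨ Commute (pr x) b)} = ⊤ := by
  set H := Subgroup.closure {x | x ∈ D ∧ (Commute (pr x) a ∨ Commute (pr x) b)} with hH
  have hHπ : H.map pr = ⊤ := by
    rw [eq_top_iff, ← S.pts_generate, Subgroup.closure_le]
    rintro x ⟨w, hx⟩
    refine (Subgroup.closure_le _).2 ?_ (point_mem_closure S.field S.dim ha hb hab hx)
    rintro y ⟨⟨z, hy⟩, hc⟩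
    obtain ⟨d, hd, rfl⟩ := S.lift y z hy
    exact ⟨d, Subgroup.subset_closure ⟨hd, hc⟩, rfl⟩
  rw [eq_top_iff, ← S.gen, Subgroup.closure_le]
  intro d hd
  obtain ⟨w, hw⟩ := S.pt d hd
  obtain ⟨q, hq⟩ := ha.exists_conj S.field hw
  obtain ⟨g, hg, rfl⟩ : q ∈ H.map pr := hHπ ▸ Subgroup.mem_top q
  have h1 : g⁻¹ * d * g ∈ H := by
    have := S.tt.conj g⁻¹ d hd
    rw [inv_inv] at this
    refine Subgroup.subset_closure ⟨this, Or.inl ?_⟩
    rw [show pr (g⁻¹ * d * g) = a by rw [map_mul, map_mul, map_inv, ← hq]; group]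
  have := mul_mem (mul_mem hg h1) (inv_mem hg)
  rwa [show g * (g⁻¹ * d * g) * g⁻¹ = d by group] at this

theorem diff_commute_diff {a b : SUn} {r s : G} (hr : r ∈ diffSet D pr a) (hs : s ∈ diffSet D pr b) :
    Commute r s := by
  by_cases hab : Commute a b
  · obtain ⟨d, hd, e, he, hda, hea, rfl⟩ := hr
    exact (S.diff_commute hd (hda.symm ▸ hab) hs).mul_left (S.diff_commute he (hea.symm ▸ hab) hs)
  have key : ∀ {a b : SUn} {r s : G}, r ∈ diffSet D pr a → s ∈ diffSet D pr b → ∀ x ∈ D, Commute (pr x) a →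
      x * (r * s * r * s) = r * s * r * s * x := by
    intro a b r s hr hs x hx hxa
    have hs2 := S.diff_sq hs
    have hw : s * x * s * x ∈ diffSet D pr (pr x) := by
      refine ⟨s * x * s⁻¹, S.tt.conj s x hx, x, hx, ?_, rfl, ?_⟩
      · rw [map_mul, map_mul, map_inv, S.diff_map hs]; simp
      · rw [inv_eq_of_mul_eq_one_right hs2]
    have hrw : Commute r (s * x * s * x) := by
      obtain ⟨d, hd, e, he, hda, hea, rfl⟩ := hr
      exact (S.diff_commute hd (hda.symm ▸ hxa.symm) hw).mul_left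
        (S.diff_commute he (hea.symm ▸ hxa.symm) hw)
    have hxr : x * r = r * x := (S.diff_commute hx hxa hr).eq
    have hr2 := S.diff_sq hr
    set w := s * x * s * x with hwdef
    have hxs : x * s = s * w * x := by
      rw [hwdef, show s * (s * x * s * x) * x = (s * s) * x * s * (x * x) by group, hs2, S.tt.sq x hx, one_mul,
        mul_one]
    have hw2 : w * w = 1 := S.diff_sq hw
    calc x * (r * s * r * s) = (x * r) * s * r * s := by group
      _ = r * (x * s) * r * s := by rw [hxr]; group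
      _ = r * s * w * (x * r) * s := by rw [hxs]; group
      _ = r * s * w * r * (x * s) := by rw [hxr]; group
      _ = r * s * (w * r) * (s * w * x) := by rw [hxs]; group
      _ = r * s * (r * w) * (s * w * x) := by rw [hrw.eq]
      _ = r * s * r * s * x := by
          have h1 : w * (s * w) = s := by
            rw [hwdef, show s * x * s * x * (s * (s * x * s * x)) = s * x * s * x * (s * s) * x * s * x by group,
              hs2, mul_one, show s * x * s * x * x * s * x = s * x * s * (x * x) * s * x by group, S.tt.sq x hx,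
              mul_one, show s * x * s * s * x = s * x * (s * s) * x by group, hs2, mul_one,
              show s * x * x = s * (x * x) by group, S.tt.sq x hx, mul_one]
          rw [show r * s * (r * w) * (s * w * x) = r * s * r * (w * (s * w)) * x by group, h1]
  obtain ⟨d, hd, e, he, hda, hea, rfl⟩ := id hr
  obtain ⟨u, hu⟩ := S.pt d hd
  rw [hda] at hu
  obtain ⟨d', hd', e', he', hd'b, he'b, rfl⟩ := id hs
  obtain ⟨v, hv⟩ := S.pt d' hd'
  rw [hd'b] at hv
  set r := d * e
  set s := d' * e'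
  have hz : r * s * r * s ∈ Subgroup.center G := by
    rw [Subgroup.mem_center_iff]
    intro g
    have hg : g ∈ Subgroup.centralizer {r * s * r * s} := by
      refine (Subgroup.closure_le _).2 ?_ ((S.near_generate hu hv hab).symm ▸ Subgroup.mem_top g)
      rintro x ⟨hx, hxa | hxb⟩
      · exact Subgroup.mem_centralizer_singleton_iff.2 (key hr hs x hx hxa)
      · have h := key hs hr x hx hxb
        have hinv : s * r * s * r = (r * s * r * s)⁻¹ := by
          rw [show (r * s * r * s)⁻¹ = s⁻¹ * r⁻¹ * s⁻¹ * r⁻¹ by group,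
            inv_eq_of_mul_eq_one_right (S.diff_sq hr), inv_eq_of_mul_eq_one_right (S.diff_sq hs)]
        rw [hinv] at h
        have h' : Commute x (r * s * r * s)⁻¹ := h
        exact Subgroup.mem_centralizer_singleton_iff.2 (Commute.inv_right_iff.1 h').eq
    exact Subgroup.mem_centralizer_singleton_iff.1 hg
  rw [S.center, Subgroup.mem_bot] at hz
  show r * s = s * r
  calc r * s = r * s * r * s * (s * r) := by
        rw [show r * s * r * s * (s * r) = r * s * r * (s * s) * r by group, S.diff_sq hs, mul_one,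
          show r * s * r * r = r * s * (r * r) by group, S.diff_sq hr, mul_one]
    _ = s * r := by rw [hz, one_mul]

theorem diffGroup_comm {v w : G} (hv : v ∈ diffGroup D pr) (hw : w ∈ diffGroup D pr) : Commute v w := by
  refine Subgroup.closure_induction (p := fun v _ => Commute v w) ?_ (Commute.one_left w)
    (fun _ _ _ _ h h' => h.mul_left h') (fun _ _ h => h.inv_left) hv
  rintro r ⟨a, hr⟩
  refine Subgroup.closure_induction (p := fun w _ => Commute r w) ?_ (Commute.one_right r)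
    (fun _ _ _ _ h h' => h.mul_right h') (fun _ _ h => h.inv_right) hw
  rintro s ⟨b, hs⟩
  exact S.diff_commute_diff hr hs

theorem diffGroup_sq {v : G} (hv : v ∈ diffGroup D pr) : v * v = 1 := by
  refine Subgroup.closure_induction (p := fun v _ => v * v = 1) ?_ (one_mul 1) ?_ ?_ hv
  · rintro r ⟨a, hr⟩
    exact S.diff_sq hr
  · intro x y hx hy h h'
    rw [mul_assoc, ← mul_assoc y, (S.diffGroup_comm hy hx).eq, mul_assoc x y y, h', mul_one, h]
  · intro x _ h
    rw [← mul_inv_rev, h, inv_one]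

theorem diffGroup_le_ker : diffGroup D pr ≤ pr.ker := by
  rw [diffGroup, Subgroup.closure_le]
  rintro r ⟨a, hr⟩
  exact S.diff_map hr

theorem diffGroup_normal : (diffGroup D pr).Normal := by
  refine ⟨fun v hv g => ?_⟩
  refine Subgroup.closure_induction (p := fun v _ => g * v * g⁻¹ ∈ diffGroup D pr) ?_ (by simp) ?_ ?_ hv
  · rintro _ ⟨a, d, hd, e, he, hda, hea, rfl⟩
    exact Subgroup.subset_closure ⟨pr g * a * (pr g)⁻¹, _, S.tt.conj g d hd, _, S.tt.conj g e he,
      by rw [map_mul, map_mul, map_inv, hda], by rw [map_mul, map_mul, map_inv, hea], by group⟩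
  · intro x y _ _ h h'
    rw [show g * (x * y) * g⁻¹ = (g * x * g⁻¹) * (g * y * g⁻¹) by group]
    exact mul_mem h h'
  · intro x _ h
    rw [show g * x⁻¹ * g⁻¹ = (g * x * g⁻¹)⁻¹ by group]
    exact inv_mem h

theorem comm_mem_diffGroup {v : G} (hv : pr v = 1) (g : G) : g * v * g⁻¹ * v⁻¹ ∈ diffGroup D pr := by
  haveI := S.diffGroup_normal
  have hg : g ∈ Subgroup.closure D := S.gen ▸ Subgroup.mem_top g
  refine Subgroup.closure_induction (p := fun g _ => ∀ v, pr v = 1 → g * v * g⁻¹ * v⁻¹ ∈ diffGroup D pr)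
    ?_ ?_ ?_ ?_ hg v hv
  · intro x hx v hv
    have hinv : pr (v * x * v⁻¹) = pr x := by rw [map_mul, map_mul, map_inv, hv]; simp
    refine Subgroup.subset_closure ⟨pr x, x, hx, _, S.tt.conj v x hx, rfl, hinv, ?_⟩
    rw [S.tt.inv_eq hx]
    group
  · intro v _
    simp
  · intro a b _ _ ha hb v hv
    have h := mul_mem (Subgroup.Normal.conj_mem inferInstance _ (hb v hv) a) (ha v hv)
    rwa [show a * (b * v * b⁻¹ * v⁻¹) * a⁻¹ * (a * v * a⁻¹ * v⁻¹) = a * b * v * (a * b)⁻¹ * v⁻¹ by group] at h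
  · intro a _ ha v hv
    have h := Subgroup.Normal.conj_mem inferInstance _ (inv_mem (ha v hv)) a⁻¹
    rwa [show a⁻¹ * (a * v * a⁻¹ * v⁻¹)⁻¹ * a⁻¹⁻¹ = a⁻¹ * v * a⁻¹⁻¹ * v⁻¹ by group] at h

/-- Kernel elements generated by lifts commuting with `a` centralise all products of two lifts. -/
theorem ker_near_commute {a : SUn} {u : Vn} (ha : IsPt a u) {y : G} (hy1 : pr y = 1)
    (hy : y ∈ Subgroup.closure {x | x ∈ D ∧ Commute (pr x) a}) {w : G} (hw : w ∈ diffGroup D pr) :
    Commute y w := by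
  refine Subgroup.closure_induction (p := fun w _ => Commute y w) ?_ (Commute.one_right y)
    (fun _ _ _ _ h h' => h.mul_right h') (fun _ _ h => h.inv_right) hw
  rintro _ ⟨b, d, hd, e, he, hdb, heb, rfl⟩
  obtain ⟨z, hz⟩ := S.pt d hd
  obtain ⟨q, hq⟩ := ha.exists_conj S.field hz
  obtain ⟨g, rfl⟩ := S.surj q
  set r := g⁻¹ * (d * e) * g with hr
  have hra : r ∈ diffSet D pr a := by
    refine ⟨g⁻¹ * d * g⁻¹⁻¹, S.tt.conj _ d hd, g⁻¹ * e * g⁻¹⁻¹, S.tt.conj _ e he, ?_, ?_, by rw [hr]; group⟩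
    · rw [map_mul, map_mul, map_inv, map_inv, map_inv, ← hq]; group
    · rw [map_mul, map_mul, map_inv, map_inv, map_inv, heb, ← hdb, ← hq]; group
  have hyr : Commute y r := by
    refine Subgroup.closure_induction (p := fun y _ => Commute y r) ?_ (Commute.one_left r)
      (fun _ _ _ _ h h' => h.mul_left h') (fun _ _ h => h.inv_left) hy
    exact fun x hx => S.diff_commute hx.1 hx.2 hra
  set t := g⁻¹ * y * g⁻¹⁻¹ * y⁻¹ with ht
  have htV : t ∈ diffGroup D pr := S.comm_mem_diffGroup hy1 g⁻¹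
  have h1 : Commute (t * y) r :=
    (S.diffGroup_comm htV (Subgroup.subset_closure ⟨a, hra⟩)).mul_left hyr
  rw [show t * y = g⁻¹ * y * g by rw [ht]; group, hr] at h1
  have h2 := h1.map (MulAut.conj g).toMonoidHom
  simpa [mul_assoc] using h2

theorem ker_le_centralizer : pr.ker ≤ Subgroup.centralizer (diffGroup D pr : Set G) := by
  classical
  haveI := S.diffGroup_normal
  set M := pr.ker ⊓ Subgroup.centralizer (diffGroup D pr : Set G) with hM
  haveI : M.Normal := by
    refine ⟨fun m hm g => ⟨?_, Subgroup.mem_centralizer_iff.2 fun w hw => ?_⟩⟩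
    · show pr (g * m * g⁻¹) = 1
      rw [map_mul, map_mul, map_inv, MonoidHom.mem_ker.1 hm.1]
      simp
    · have h := Subgroup.mem_centralizer_iff.1 hm.2 (g⁻¹ * w * g⁻¹⁻¹)
        (Subgroup.Normal.conj_mem inferInstance _ hw g⁻¹)
      calc w * (g * m * g⁻¹) = g * (g⁻¹ * w * g⁻¹⁻¹ * m) * g⁻¹ := by group
        _ = g * (m * (g⁻¹ * w * g⁻¹⁻¹)) * g⁻¹ := by rw [h]
        _ = g * m * g⁻¹ * w := by group
  have hDM : diffGroup D pr ≤ M := le_inf S.diffGroup_le_ker fun v hv =>
    Subgroup.mem_centralizer_iff.2 fun w hw => (S.diffGroup_comm hw hv).eq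
  let p : G ⧸ M →* SUn := QuotientGroup.lift M pr fun g hg => hg.1
  let s : SUn → G ⧸ M := fun x => if h : ∃ d ∈ D, pr d = x then QuotientGroup.mk h.choose else 1
  have huniq : ∀ d ∈ D, ∀ e ∈ D, pr d = pr e → (QuotientGroup.mk d : G ⧸ M) = QuotientGroup.mk e := by
    intro d hd e he h
    refine (QuotientGroup.eq).2 (hDM ?_)
    rw [S.tt.inv_eq hd]
    exact Subgroup.subset_closure ⟨pr d, d, hd, e, he, rfl, h.symm, rfl⟩
  have hs : ∀ d ∈ D, s (pr d) = QuotientGroup.mk d := by
    intro d hd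
    have h : ∃ e ∈ D, pr e = pr d := ⟨d, hd, rfl⟩
    simp only [s, dif_pos h]
    exact huniq _ h.choose_spec.1 d hd h.choose_spec.2
  have L : IsLift p s := by
    refine ⟨?_, ?_, ?_, ?_, ?_⟩
    · intro z hz
      obtain ⟨v, rfl⟩ := QuotientGroup.mk_surjective z
      rw [Subgroup.mem_center_iff]
      intro g
      obtain ⟨g, rfl⟩ := QuotientGroup.mk_surjective g
      rw [← QuotientGroup.mk_mul, ← QuotientGroup.mk_mul, eq_comm, QuotientGroup.eq]
      refine hDM ?_
      have h := S.comm_mem_diffGroup (v := v) (MonoidHom.mem_ker.1 hz) g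
      have h' := Subgroup.Normal.conj_mem inferInstance _ h (v * g)⁻¹
      rwa [show (v * g)⁻¹ * (g * v * g⁻¹ * v⁻¹) * (v * g)⁻¹⁻¹ = (v * g)⁻¹ * (g * v) by group] at h'
    · rintro ⟨z, hz⟩
      obtain ⟨v, rfl⟩ := QuotientGroup.mk_surjective z
      obtain ⟨a, ha⟩ := S.two ⟨v, hz⟩
      refine ⟨a, Subtype.ext ?_⟩
      have := congrArg (fun y : pr.ker => (QuotientGroup.mk (y : G) : G ⧸ M)) ha
      simpa using this
    · intro x v hx
      obtain ⟨d, hd, rfl⟩ := S.lift x v hx
      rw [hs d hd]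
      rfl
    · intro g x v hx
      obtain ⟨d, hd, rfl⟩ := S.lift x v hx
      obtain ⟨g, rfl⟩ := QuotientGroup.mk_surjective g
      have : p (QuotientGroup.mk g) * pr d * (p (QuotientGroup.mk g))⁻¹ = pr (g * d * g⁻¹) := by
        rw [map_mul, map_mul, map_inv]; rfl
      rw [this, hs d hd, hs _ (S.tt.conj g d hd)]
      rfl
    · intro a u ha z hz hz1
      have hle : Subgroup.closure (s '' {x | (∃ w, IsPt x w) ∧ Commute x a}) ≤
          (Subgroup.closure {x | x ∈ D ∧ Commute (pr x) a}).map (QuotientGroup.mk' M) := by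
        rw [Subgroup.closure_le]
        rintro _ ⟨x, ⟨⟨w, hx⟩, hxa⟩, rfl⟩
        obtain ⟨d, hd, rfl⟩ := S.lift x w hx
        exact ⟨d, Subgroup.subset_closure ⟨hd, hxa⟩, (hs d hd).symm⟩
      obtain ⟨y, hy, rfl⟩ := hle hz
      refine (QuotientGroup.eq_one_iff y).2 ⟨hz1, Subgroup.mem_centralizer_iff.2 fun w hw => ?_⟩
      exact (S.ker_near_commute ha hz1 hy hw).eq.symm
  intro v hv
  have hall : ∀ g : G, (QuotientGroup.mk g : G ⧸ M) ∈
      Subgroup.closure (s '' WPts (Fin.elim0 : Fin 0 → Vn)) := by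
    intro g
    have hg : g ∈ Subgroup.closure D := S.gen ▸ Subgroup.mem_top g
    refine Subgroup.closure_induction (p := fun g _ => (QuotientGroup.mk g : G ⧸ M) ∈
      Subgroup.closure (s '' WPts (Fin.elim0 : Fin 0 → Vn))) ?_ (one_mem _) ?_ ?_ hg
    · intro d hd
      obtain ⟨w, hw⟩ := S.pt d hd
      exact Subgroup.subset_closure ⟨pr d, ⟨w, hw, fun i => i.elim0⟩, hs d hd⟩
    · intro a b _ _ h h'; exact mul_mem h h'
    · intro a _ h; exact inv_mem h
  have := lifts_trivial S.field L (n - 4) (Ortho.nil _) (by have := S.dim; omega) _ (hall v) hv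
  exact ((QuotientGroup.eq_one_iff v).1 this).2

theorem ker_elementaryAbelian : Cfsg.IsElementaryAbelian 2 pr.ker := by
  have hfix : ∀ {t : G}, t ∈ diffGroup D pr → ∀ v ∈ pr.ker, Commute v t := fun ht v hv =>
    (Subgroup.mem_centralizer_iff.1 (S.ker_le_centralizer hv) _ ht).symm
  have hcomm : ∀ y ∈ pr.ker, ∀ y' ∈ pr.ker, y * y' = y' * y := by
    intro y hy y' hy'
    have hc : y * y' * y⁻¹ * y'⁻¹ ∈ Subgroup.center G := by
      rw [Subgroup.mem_center_iff]
      intro g
      set t := g * y * g⁻¹ * y⁻¹ with ht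
      set t' := g * y' * g⁻¹ * y'⁻¹ with ht'
      have hm : t ∈ diffGroup D pr := S.comm_mem_diffGroup hy g
      have hm' : t' ∈ diffGroup D pr := S.comm_mem_diffGroup hy' g
      have h1 : g * (y * y' * y⁻¹ * y'⁻¹) * g⁻¹ = (t * y) * (t' * y') * (t * y)⁻¹ * (t' * y')⁻¹ := by
        rw [ht, ht']; group
      have a1 := hfix hm' y hy
      have a2 := hfix hm y' hy'
      have a3 := S.diffGroup_comm hm hm'
      have a4 := hfix hm y hy
      have a5 := hfix hm' y' hy'
      have h2 : (t * y) * (t' * y') * (t * y)⁻¹ * (t' * y')⁻¹ = y * y' * y⁻¹ * y'⁻¹ := by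
        have e1 : (t * y) * (t' * y') = (t * t') * (y * y') := by
          rw [mul_assoc t y, ← mul_assoc y t', a1.eq]; group
        have e2 : (t' * y') * (t * y) = (t * t') * (y' * y) := by
          rw [mul_assoc t' y', ← mul_assoc y' t, a2.eq, a3.eq]; group
        have c1 : Commute (y * y') (t * t') := (a4.mul_left a2).mul_right (a1.mul_left a5)
        have c2 : Commute (y' * y) (t * t') := (a2.mul_left a4).mul_right (a5.mul_left a1)
        rw [show (t * y) * (t' * y') * (t * y)⁻¹ * (t' * y')⁻¹ =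
          (t * y) * (t' * y') * ((t' * y') * (t * y))⁻¹ by group, e1, e2, ← c1.eq, ← c2.eq, mul_inv_rev]
        group
      rw [← mul_inv_eq_iff_eq_mul, h1, h2]
    rw [S.center, Subgroup.mem_bot] at hc
    have h1 : y * y' * (y' * y)⁻¹ = 1 := by rw [mul_inv_rev, ← mul_assoc]; exact hc
    exact mul_inv_eq_one.1 h1
  refine ⟨⟨⟨fun a b => Subtype.ext (hcomm a a.2 b b.2)⟩⟩, fun v hv => ?_⟩
  rw [pow_two]
  have hc : v * v ∈ Subgroup.center G := by
    rw [Subgroup.mem_center_iff]
    intro g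
    set t := g * v * g⁻¹ * v⁻¹ with ht
    have hm : t ∈ diffGroup D pr := S.comm_mem_diffGroup hv g
    rw [← mul_inv_eq_iff_eq_mul]
    calc g * (v * v) * g⁻¹ = (t * v) * (t * v) := by rw [ht]; group
      _ = t * (v * t) * v := by group
      _ = t * (t * v) * v := by rw [(hfix hm v hv).eq]
      _ = v * v := by rw [← mul_assoc t t v, S.diffGroup_sq hm, one_mul]
  rwa [S.center, Subgroup.mem_bot] at hc

end Setting

end CfsgLib.SURadical
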