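import Cfsg.Agent.Lib.ThreeTransp.SURadical.Points

/-!
# Orthogonal complements of orthonormal systems in `Fⁿ`, `#F = 4`

`W(Φ)` is the orthogonal of an orthonormal system `Φ`; its points generate a subgroup containing every
element of 2-power order which fixes `Φ`, when `W(Φ)` has dimension at least four.
-/

set_option autoImplicit false

namespace CfsgLib.SURadical

open Matrix Cfsg
open CfsgLib.PSUAut

variable {F : Type} [Field F] [Fintype F] {n k : ℕ}

local notation "Vn" => Fin n → F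
local notation "hh" => Cfsg.hermForm n F 2
local notation "SUn" => (Cfsg.SU n F 2)

/-- `y` is orthogonal to the system. -/
def InW (Φ : Fin k → Vn) (y : Vn) : Prop := ∀ i, hh y (Φ i) = 0

/-- An orthonormal system. -/
def Ortho (Φ : Fin k → Vn) : Prop := ∀ i j, hh (Φ i) (Φ j) = if i = j then 1 else 0

/-- Fixing the system pointwise. -/
def Fixes (Φ : Fin k → Vn) (g : SUn) : Prop := ∀ i, act g (Φ i) = Φ i

/-- The points in the orthogonal of the system. -/
def WPts (Φ : Fin k → Vn) : Set SUn := {x | ∃ v, IsPt x v ∧ InW Φ v}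

/-- The points in the orthogonal of the system and of `u`. -/
def UPts (Φ : Fin k → Vn) (u : Vn) : Set SUn := {x | ∃ v, IsPt x v ∧ InW Φ v ∧ hh v u = 0}

theorem inW_cons {Φ : Fin k → Vn} {e y : Vn} :
    InW (Fin.cons e Φ) y ↔ hh y e = 0 ∧ InW Φ y := by
  unfold InW
  constructor
  · exact fun h => ⟨by simpa using h 0, fun i => by simpa using h i.succ⟩
  · rintro ⟨h0, h1⟩ i
    refine Fin.cases ?_ (fun j => ?_) i
    · simpa using h0
    · simpa using h1 j

theorem fixes_cons {Φ : Fin k → Vn} {e : Vn} {g : SUn} :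
    Fixes (Fin.cons e Φ) g ↔ act g e = e ∧ Fixes Φ g := by
  unfold Fixes
  constructor
  · exact fun h => ⟨by simpa using h 0, fun i => by simpa using h i.succ⟩
  · rintro ⟨h0, h1⟩ i
    refine Fin.cases ?_ (fun j => ?_) i
    · simpa using h0
    · simpa using h1 j

theorem Fixes.mul {Φ : Fin k → Vn} {g g' : SUn} (h : Fixes Φ g) (h' : Fixes Φ g') : Fixes Φ (g * g') :=
  fun i => by rw [act_mul, h' i, h i]

theorem Fixes.one (Φ : Fin k → Vn) : Fixes Φ (1 : SUn) := fun _ => act_one _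

theorem Fixes.inv {Φ : Fin k → Vn} {g : SUn} (h : Fixes Φ g) : Fixes Φ g⁻¹ := fun i => by
  conv_lhs => rw [← h i]
  rw [act_inv_apply]

theorem Fixes.pow {Φ : Fin k → Vn} {g : SUn} (h : Fixes Φ g) : ∀ j : ℕ, Fixes Φ (g ^ j)
  | 0 => by rw [pow_zero]; exact Fixes.one Φ
  | j + 1 => by rw [pow_succ]; exact (Fixes.pow h j).mul h

theorem act_pow_fix {g : SUn} {y : Vn} (h : act g y = y) : ∀ j : ℕ, act (g ^ j) y = y
  | 0 => by rw [pow_zero, act_one]
  | j + 1 => by rw [pow_succ, act_mul, h, act_pow_fix h j]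

theorem act_inv_fix {g : SUn} {y : Vn} (h : act g y = y) : act g⁻¹ y = y := by
  conv_lhs => rw [← h]
  rw [act_inv_apply]

theorem InW.act {Φ : Fin k → Vn} {g : SUn} {y : Vn} (hg : Fixes Φ g) (hy : InW Φ y) :
    InW Φ (act g y) := fun i => by rw [← hg i, act_form, hy i]

theorem fixes_of_mem_closure {Φ : Fin k → Vn} {S : Set SUn} (hS : ∀ x ∈ S, Fixes Φ x) {g : SUn}
    (hg : g ∈ Subgroup.closure S) : Fixes Φ g :=
  Subgroup.closure_induction (p := fun g _ => Fixes Φ g) hS (Fixes.one Φ)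
    (fun _ _ _ _ h h' => h.mul h') (fun _ _ h => h.inv) hg

theorem act_of_mem_closure {y : Vn} {S : Set SUn} (hS : ∀ x ∈ S, act x y = y) {g : SUn}
    (hg : g ∈ Subgroup.closure S) : act g y = y :=
  Subgroup.closure_induction (p := fun g _ => act g y = y) hS (act_one y)
    (fun _ _ _ _ h h' => by rw [act_mul, h', h]) (fun _ _ h => act_inv_fix h) hg

theorem uPts_subset (Φ : Fin k → Vn) (u : Vn) : UPts Φ u ⊆ WPts Φ :=
  fun _ ⟨v, hv, hW, _⟩ => ⟨v, hv, hW⟩

theorem wPts_cons_subset (Φ : Fin k → Vn) (e : Vn) : WPts (Fin.cons e Φ) ⊆ WPts Φ :=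
  fun _ ⟨v, hv, hW⟩ => ⟨v, hv, (inW_cons.1 hW).2⟩

variable (hF : Fintype.card F = 2 ^ 2)
include hF

theorem InW.zero (Φ : Fin k → Vn) : InW Φ (0 : Vn) := fun _ => zero_left hF _

theorem InW.add {Φ : Fin k → Vn} {x y : Vn} (hx : InW Φ x) (hy : InW Φ y) : InW Φ (x + y) :=
  fun i => by rw [add_left hF, hx i, hy i, add_zero]

theorem InW.smul {Φ : Fin k → Vn} {x : Vn} (a : F) (hx : InW Φ x) : InW Φ (a • x) :=
  fun i => by rw [smul_left hF, hx i, mul_zero]

theorem wPts_fixes {Φ : Fin k → Vn} {x : SUn} (hx : x ∈ WPts Φ) : Fixes Φ x := by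
  obtain ⟨v, hv, hW⟩ := hx
  exact fun i => hv.act_of_perp ((comm_zero hF).1 (hW i))

theorem fixes_of_mem_TW {Φ : Fin k → Vn} {g : SUn} (hg : g ∈ Subgroup.closure (WPts Φ)) : Fixes Φ g :=
  fixes_of_mem_closure (fun _ hx => wPts_fixes hF hx) hg

theorem fixes_of_mem_TU {Φ : Fin k → Vn} {u : Vn} {g : SUn} (hg : g ∈ Subgroup.closure (UPts Φ u)) :
    Fixes Φ g :=
  fixes_of_mem_TW hF (Subgroup.closure_mono (uPts_subset Φ u) hg)

theorem act_of_mem_TU {Φ : Fin k → Vn} {u : Vn} {g : SUn} (hg : g ∈ Subgroup.closure (UPts Φ u)) :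
    act g u = u := by
  refine act_of_mem_closure ?_ hg
  rintro x ⟨v, hv, -, hvu⟩
  exact hv.act_of_perp ((comm_zero hF).1 hvu)

omit hF in
theorem Ortho.nil (Φ : Fin 0 → Vn) : Ortho Φ := fun i => i.elim0

theorem Ortho.cons {Φ : Fin k → Vn} (hΦ : Ortho Φ) {e : Vn} (he : InW Φ e) (hee : hh e e = 1) :
    Ortho (Fin.cons e Φ) := by
  intro i j
  refine Fin.cases ?_ (fun i' => ?_) i <;> refine Fin.cases ?_ (fun j' => ?_) j
  · simpa using hee
  · simpa [(Fin.succ_ne_zero j').symm] using he j'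
  · simpa [Fin.succ_ne_zero i'] using (comm_zero hF).1 (he i')
  · simpa using hΦ i' j'

theorem sum_coef {Φ : Fin k → Vn} (hΦ : Ortho Φ) (c : Fin k → F) (j : Fin k) :
    hh (∑ i, c i • Φ i) (Φ j) = c j := by
  classical
  rw [sum_left hF, Finset.sum_eq_single j]
  · rw [smul_left hF, hΦ j j, if_pos rfl, mul_one]
  · intro i _ hij
    rw [smul_left hF, hΦ i j, if_neg hij, mul_zero]
  · exact fun h => absurd (Finset.mem_univ j) h

theorem Ortho.linearIndependent {Φ : Fin k → Vn} (hΦ : Ortho Φ) : LinearIndependent F Φ :=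
  Fintype.linearIndependent_iff.2 fun c hc j => by rw [← sum_coef hF hΦ c j, hc, zero_left hF]

theorem Ortho.le {Φ : Fin k → Vn} (hΦ : Ortho Φ) : k ≤ n := by
  simpa using (Ortho.linearIndependent hF hΦ).fintype_card_le_finrank

/-- A full orthonormal system has no nonzero orthogonal vector. -/
theorem eq_zero_of_full {Φ : Fin k → Vn} (hΦ : Ortho Φ) (hk : n ≤ k) {y : Vn} (hy : InW Φ y) :
    y = 0 := by
  have hspan : Submodule.span F (Set.range Φ) = ⊤ := by
    apply (Ortho.linearIndependent hF hΦ).span_eq_top_of_card_eq_finrank'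
    simp [le_antisymm (Ortho.le hF hΦ) hk]
  have hy' : y ∈ Submodule.span F (Set.range Φ) := hspan ▸ Submodule.mem_top
  obtain ⟨c, rfl⟩ := (Submodule.mem_span_range_iff_exists_fun F).1 hy'
  refine Finset.sum_eq_zero fun i _ => ?_
  rw [show c i = 0 by rw [← sum_coef hF hΦ c i]; exact hy i, zero_smul]

/-- The orthogonal projection. -/
theorem exists_proj {Φ : Fin k → Vn} (hΦ : Ortho Φ) (y : Vn) :
    ∃ y₀, InW Φ y₀ ∧ y = y₀ + ∑ i, hh y (Φ i) • Φ i ∧ ∀ x, InW Φ x → hh y₀ x = hh y x := by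
  refine ⟨y + ∑ i, hh y (Φ i) • Φ i, fun j => ?_, ?_, fun x hx => ?_⟩
  · rw [add_left hF, sum_coef hF hΦ fun i => hh y (Φ i)]
    exact add_self hF _
  · rw [add_assoc, vadd_self hF, add_zero]
  · rw [add_left hF, sum_left hF, Finset.sum_eq_zero fun i _ => ?_, add_zero]
    rw [smul_left hF, (comm_zero hF).1 (hx i), mul_zero]

theorem exists_partnerW {Φ : Fin k → Vn} (hΦ : Ortho Φ) {u : Vn} (hu : InW Φ u) (hu0 : u ≠ 0) :
    ∃ y, InW Φ y ∧ hh y u = 1 := by
  obtain ⟨σ, hσ⟩ := exists_sigma hF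
  obtain ⟨y, hy⟩ := exists_partner hF hσ hu0
  obtain ⟨y₀, hy₀, -, hy₀'⟩ := exists_proj hF hΦ y
  exact ⟨y₀, hy₀, by rw [hy₀' u hu, hy]⟩

theorem exists_isoPartner {Φ : Fin k → Vn} (hΦ : Ortho Φ) {u : Vn} (hu : Isot 2 u) (huW : InW Φ u) :
    ∃ v, Isot 2 v ∧ InW Φ v ∧ hh v u = 1 := by
  obtain ⟨σ, hσ⟩ := exists_sigma hF
  obtain ⟨y, hy, hyu⟩ := exists_partnerW hF hΦ huW hu.1
  obtain ⟨a, ha, ha1, ha0⟩ := exists_iso_shift hF hσ hu.2 hyu
  exact ⟨_, ⟨ha0, ha⟩, InW.add hF hy (InW.smul hF a huW), ha1⟩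

theorem exists_nonzeroW (Φ : Fin k → Vn) (hk : k < n) : ∃ e, e ≠ 0 ∧ InW Φ e := by
  obtain ⟨σ, hσ⟩ := exists_sigma hF
  exact exists_perp hF hσ Φ hk

theorem exists_unit {Φ : Fin k → Vn} (hΦ : Ortho Φ) (hk : k < n) : ∃ e, InW Φ e ∧ hh e e = 1 := by
  obtain ⟨x, hx0, hx⟩ := exists_nonzeroW hF Φ hk
  rcases norm_zero_or_one hF x with h | h
  · obtain ⟨v, hv, hvW, hvx⟩ := exists_isoPartner hF hΦ ⟨hx0, h⟩ hx
    obtain ⟨w, -, hw⟩ := exists_omega' hF
    refine ⟨x + w • v, InW.add hF hx (InW.smul hF w hvW), ?_⟩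
    simp only [add_left hF, add_right hF, smul_left hF, smul_right hF, h, hv.2, hvx, comm_one hF hvx]
    linear_combination hw - add_self hF (1 : F)
  · exact ⟨x, hx, h⟩

theorem add_isot {x y : Vn} (hx : hh x x = 1) (hy : hh y y = 1) (hxy : hh x y = 0) : Isot 2 (x + y) := by
  have h' : hh y x = 0 := (comm_zero hF).1 hxy
  refine ⟨fun h0 => ?_, ?_⟩
  · have := congrArg (fun z => hh z x) h0
    simp only [add_left hF, hx, h', add_zero, zero_left hF] at this
    exact one_ne_zero this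
  · rw [add_left hF, add_right hF, add_right hF, hx, hy, hxy, h', add_zero, zero_add]
    exact add_self hF 1

theorem exists_iso {Φ : Fin k → Vn} (hΦ : Ortho Φ) (hk : k + 2 ≤ n) : ∃ u, Isot 2 u ∧ InW Φ u := by
  obtain ⟨e₁, h₁, h₁'⟩ := exists_unit hF hΦ (by omega)
  obtain ⟨e₂, h₂, h₂'⟩ := exists_unit hF (hΦ.cons hF h₁ h₁') (by omega)
  obtain ⟨h₂₁, h₂W⟩ := inW_cons.1 h₂
  exact ⟨e₁ + e₂, add_isot hF h₁' h₂' ((comm_zero hF).1 h₂₁), InW.add hF h₁ h₂W⟩

/-- Isotropic vectors span. -/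
theorem iso_induction {Φ : Fin k → Vn} (hΦ : Ortho Φ) (hk : k + 2 ≤ n) {P : Vn → Prop} (h0 : P 0)
    (hiso : ∀ y, Isot 2 y → InW Φ y → P y) (hadd : ∀ x y, InW Φ x → InW Φ y → P x → P y → P (x + y))
    {y : Vn} (hy : InW Φ y) : P y := by
  rcases norm_zero_or_one hF y with h | h
  · by_cases hy0 : y = 0
    · exact hy0 ▸ h0
    · exact hiso y ⟨hy0, h⟩ hy
  obtain ⟨e, he, hee⟩ := exists_unit hF (hΦ.cons hF hy h) (by omega)
  obtain ⟨hey, heW⟩ := inW_cons.1 he
  have hye : hh y e = 0 := (comm_zero hF).1 hey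
  obtain ⟨w, hw0, hw⟩ := exists_omega' hF
  have i₁ : Isot 2 (w • w • (y + e)) := by
    obtain ⟨a, b⟩ := add_isot hF h hee hye
    exact ⟨smul_ne_zero hw0 (smul_ne_zero hw0 a), by rw [smul_norm hF hw0, smul_norm hF hw0, b]⟩
  have i₂ : Isot 2 (w • (y + w • e)) := by
    obtain ⟨a, b⟩ := add_isot hF h (show hh (w • e) (w • e) = 1 by rw [smul_norm hF hw0, hee])
      (show hh y (w • e) = 0 by rw [smul_right hF, hye, mul_zero])
    exact ⟨smul_ne_zero hw0 a, by rw [smul_norm hF hw0, b]⟩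
  have w₁ : InW Φ (w • w • (y + e)) := InW.smul hF _ (InW.smul hF _ (InW.add hF hy heW))
  have w₂ : InW Φ (w • (y + w • e)) := InW.smul hF _ (InW.add hF hy (InW.smul hF _ heW))
  have e1 : y = w • w • (y + e) + w • (y + w • e) := by
    have := vadd_self hF ((w * w) • e)
    linear_combination (norm := module) (-1 : F) • this -
      congrArg (fun c : F => c • y) (show w ^ 2 + w = 1 by linear_combination hw - add_self hF (1 : F))
  rw [e1]
  exact hadd _ _ w₁ w₂ (hiso _ i₁ w₁) (hiso _ i₂ w₂)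

theorem exists_isoTest {Φ : Fin k → Vn} (hΦ : Ortho Φ) (hk : k + 2 ≤ n) {m : Vn} (hm : InW Φ m)
    (hm0 : m ≠ 0) : ∃ y, Isot 2 y ∧ InW Φ y ∧ hh y m ≠ 0 := by
  rcases norm_zero_or_one hF m with h | h
  · obtain ⟨v, hv, hvW, hvm⟩ := exists_isoPartner hF hΦ ⟨hm0, h⟩ hm
    exact ⟨v, hv, hvW, by rw [hvm]; exact one_ne_zero⟩
  · obtain ⟨e, he, hee⟩ := exists_unit hF (hΦ.cons hF hm h) (by omega)
    obtain ⟨hem, heW⟩ := inW_cons.1 he
    refine ⟨m + e, add_isot hF h hee ((comm_zero hF).1 hem), InW.add hF hm heW, ?_⟩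
    rw [add_left hF, h, hem, add_zero]
    exact one_ne_zero

theorem exists_avoidW {Φ : Fin k → Vn} (hΦ : Ortho Φ) {u w : Vn} (hu : Isot 2 u) (huW : InW Φ u)
    (hw : Isot 2 w) (hwW : InW Φ w) : ∃ z, Isot 2 z ∧ InW Φ z ∧ hh z u ≠ 0 ∧ hh z w ≠ 0 := by
  obtain ⟨y, hy, hyW, hyu⟩ := exists_isoPartner hF hΦ hu huW
  by_cases hyw : hh y w = 0
  swap
  · exact ⟨y, hy, hyW, by rw [hyu]; exact one_ne_zero, hyw⟩
  obtain ⟨y', hy', hy'W, hy'w⟩ := exists_isoPartner hF hΦ hw hwW
  by_cases hy'u : hh y' u = 0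
  swap
  · exact ⟨y', hy', hy'W, hy'u, by rw [hy'w]; exact one_ne_zero⟩
  set c := hh y y' with hc
  obtain ⟨l, hl0, hl⟩ : ∃ l : F, l ≠ 0 ∧ l ^ 2 * c + l * c ^ 2 = 0 := by
    by_cases hc0 : c = 0
    · exact ⟨1, one_ne_zero, by rw [hc0]; ring⟩
    · exact ⟨c, hc0, by linear_combination add_self hF (c ^ 2 * c)⟩
  have h1 : hh (y + l • y') u = 1 := by rw [add_left hF, smul_left hF, hyu, hy'u, mul_zero, add_zero]
  refine ⟨y + l • y', ⟨fun h0 => ?_, ?_⟩, InW.add hF hyW (InW.smul hF l hy'W), ?_, ?_⟩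
  · rw [h0, zero_left hF] at h1
    exact zero_ne_one h1
  · simp only [add_left hF, add_right hF, smul_left hF, smul_right hF, hy.2, hy'.2, conj_form hF y y', ← hc]
    linear_combination hl
  · rw [h1]; exact one_ne_zero
  · rw [add_left hF, smul_left hF, hyw, hy'w, zero_add, mul_one]
    exact hl0

/-- The system extended by a hyperbolic pair. -/
theorem Ortho.hyp {Φ : Fin k → Vn} (hΦ : Ortho Φ) {u v : Vn} (huW : InW Φ u) (hvW : InW Φ v)
    (hu : hh u u = 0) (hv : hh v v = 0) (hvu : hh v u = 1) {w : F} (hw : w ^ 2 + w + 1 = 0) :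
    Ortho (Fin.cons (u + (w * w) • v) (Fin.cons (u + w • v) Φ : Fin (k + 1) → Vn)) := by
  have h1 := comm_one hF hvu
  refine (hΦ.cons hF (InW.add hF huW (InW.smul hF w hvW)) ?_).cons hF
    (inW_cons.2 ⟨?_, InW.add hF huW (InW.smul hF _ hvW)⟩) ?_
  · simp only [add_left hF, add_right hF, smul_left hF, smul_right hF, hu, hv, hvu, h1]
    linear_combination hw - add_self hF (1 : F)
  · simp only [add_left hF, add_right hF, smul_left hF, smul_right hF, hu, hv, hvu, h1]
    linear_combination add_self hF (w ^ 2)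
  · simp only [add_left hF, add_right hF, smul_left hF, smul_right hF, hu, hv, hvu, h1]
    have : w ^ 3 = 1 := by linear_combination (w - 1) * hw
    linear_combination (w + 0) * this + hw - add_self hF (1 : F)

theorem inW_hyp {Φ : Fin k → Vn} {u v : Vn} {w : F} (hw : w ^ 2 + w + 1 = 0) {x : Vn} :
    InW (Fin.cons (u + (w * w) • v) (Fin.cons (u + w • v) Φ : Fin (k + 1) → Vn)) x ↔
      hh x u = 0 ∧ hh x v = 0 ∧ InW Φ x := by
  rw [inW_cons, inW_cons]
  simp only [add_right hF, smul_right hF]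
  constructor
  · rintro ⟨h₁, h₂, h₃⟩
    have h3 : w ^ 3 = 1 := by linear_combination (w - 1) * hw
    have hv : hh x v = 0 := by
      linear_combination h₁ + h₂ - (w * hh x v) * h3 - hh x v * hw - add_self hF (hh x u) + add_self hF (hh x v)
    exact ⟨by rw [hv, mul_zero, add_zero] at h₂; exact h₂, hv, h₃⟩
  · rintro ⟨hu, hv, h₃⟩
    simp [hu, hv, h₃]

/-- Extensionality along an orthonormal system, a hyperbolic pair and the orthogonal of both. -/
theorem ext_split {Φ : Fin k → Vn} (hΦ : Ortho Φ) {u v : Vn} (huW : InW Φ u) (hvW : InW Φ v)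
    (hu : hh u u = 0) (hv : hh v v = 0) (hvu : hh v u = 1) {g g' : SUn} (h₁ : ∀ i, act g (Φ i) = act g' (Φ i))
    (h₂ : act g u = act g' u) (h₃ : act g v = act g' v)
    (h₄ : ∀ r, InW Φ r → hh r u = 0 → hh r v = 0 → act g r = act g' r) : g = g' := by
  refine act_ext fun y => ?_
  obtain ⟨y₀, hy₀, hy, -⟩ := exists_proj hF hΦ y
  have hr := h₄ (y₀ + hh y₀ v • u + hh y₀ u • v)
    (InW.add hF (InW.add hF hy₀ (InW.smul hF _ huW)) (InW.smul hF _ hvW))
    (by rw [add_left hF, add_left hF, smul_left hF, smul_left hF, hu, hvu, mul_zero, add_zero, mul_one]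
        exact add_self hF _)
    (by rw [add_left hF, add_left hF, smul_left hF, smul_left hF, hv, comm_one hF hvu, mul_zero, add_zero,
          mul_one]
        exact add_self hF _)
  simp only [act_add, act_smul, h₂, h₃, add_left_inj] at hr
  have hsum : ∀ a : SUn, act a y = act a y₀ + ∑ i, hh y (Φ i) • act a (Φ i) := by
    intro a
    conv_lhs => rw [hy]
    rw [act_add]
    congr 1
    simp only [act, Matrix.mulVec_sum, Matrix.mulVec_smul]
  rw [hsum, hsum, hr, Finset.sum_congr rfl fun i _ => by rw [h₁ i]]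

/-- Congruence modulo `u` on the orthogonal of `Φ` and `u`. -/
def Cong (Φ : Fin k → Vn) (u : Vn) (g g' : SUn) : Prop :=
  ∀ y, InW Φ y → hh y u = 0 → ∃ c : F, act g y = act g' y + c • u

omit hF in
theorem Cong.refl (Φ : Fin k → Vn) (u : Vn) (g : SUn) : Cong Φ u g g :=
  fun _ _ _ => ⟨0, by rw [zero_smul, add_zero]⟩

theorem Cong.trans {Φ : Fin k → Vn} {u : Vn} {a b c : SUn} (h : Cong Φ u a b) (h' : Cong Φ u b c) :
    Cong Φ u a c := fun y hy hyu => by
  have _ := hF
  obtain ⟨p, hp⟩ := h y hy hyu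
  obtain ⟨q, hq⟩ := h' y hy hyu
  exact ⟨p + q, by rw [hp, hq, add_smul]; abel⟩

theorem Cong.symm {Φ : Fin k → Vn} {u : Vn} {a b : SUn} (h : Cong Φ u a b) : Cong Φ u b a :=
  fun y hy hyu => by
    obtain ⟨p, hp⟩ := h y hy hyu
    exact ⟨p, by rw [hp, add_assoc, vadd_self hF, add_zero]⟩

theorem Cong.mul {Φ : Fin k → Vn} {u : Vn} {a b a' b' : SUn} (h : Cong Φ u a b) (h' : Cong Φ u a' b')
    (ha : act a u = u) (hb' : Fixes Φ b') (hb'u : act b' u = u) : Cong Φ u (a * a') (b * b') := by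
  intro y hy hyu
  obtain ⟨p, hp⟩ := h' y hy hyu
  obtain ⟨q, hq⟩ := h (act b' y) (hy.act hb') (by rw [← hb'u, act_form, hyu])
  refine ⟨q + p, ?_⟩
  rw [act_mul, act_mul, hp, act_add, act_smul, ha, hq, add_smul]
  abel

/-- Two stabilisers of the pair congruent modulo `u` are equal. -/
theorem eq_of_cong {Φ : Fin k → Vn} (hΦ : Ortho Φ) {u v : Vn} (huW : InW Φ u) (hvW : InW Φ v)
    (hu : hh u u = 0) (hv : hh v v = 0) (hvu : hh v u = 1) {g g' : SUn} (hg : Fixes Φ g) (hg' : Fixes Φ g')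
    (hgu : act g u = u) (hg'u : act g' u = u) (hgv : act g v = v) (hg'v : act g' v = v)
    (h : Cong Φ u g g') : g = g' := by
  refine ext_split hF hΦ huW hvW hu hv hvu (fun i => by rw [hg i, hg' i]) (by rw [hgu, hg'u])
    (by rw [hgv, hg'v]) fun r hr hru hrv => ?_
  obtain ⟨c, hc⟩ := h r hr hru
  have h1 : hh (act g r) v = 0 := by rw [← hgv, act_form, hrv]
  have h2 : hh (act g' r) v = 0 := by rw [← hg'v, act_form, hrv]
  rw [hc, add_left hF, smul_left hF, h2, comm_one hF hvu, mul_one, zero_add] at h1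
  rw [hc, h1, zero_smul, add_zero]

/-- Shifts of `v` by elements generated by points orthogonal to `u`. -/
theorem exists_shift {Φ : Fin k → Vn} (hΦ : Ortho Φ) (hk : k + 4 ≤ n) {u v : Vn} (huW : InW Φ u)
    (hvW : InW Φ v) (hu : hh u u = 0) (hv : hh v v = 0) (hvu : hh v u = 1) {r : Vn} (hr : InW Φ r)
    (hru : hh r u = 0) (hrv : hh r v = 0) :
    ∃ t ∈ Subgroup.closure (UPts Φ u), Cong Φ u t 1 ∧ ∃ c : F, act t v = v + r + c • u := by
  obtain ⟨w, -, hw⟩ := exists_omega' hF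
  have hR := hΦ.hyp hF huW hvW hu hv hvu hw
  refine iso_induction hF hR (by omega) (P := fun r => ∃ t ∈ Subgroup.closure (UPts Φ u), Cong Φ u t 1 ∧
    ∃ c : F, act t v = v + r + c • u) ⟨1, one_mem _, Cong.refl Φ u 1, 0, by simp [act_one]⟩ ?_ ?_
    ((inW_hyp hF hw).2 ⟨hru, hrv, hr⟩)
  · intro x hx hxR
    obtain ⟨hxu, hxv, hxW⟩ := (inW_hyp hF hw).1 hxR
    have hux : hh u x = 0 := (comm_zero hF).1 hxu
    have hvx : hh v x = 0 := (comm_zero hF).1 hxv
    have hzu : hh (x + u) u = 0 := by rw [add_left hF, hxu, hu, add_zero]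
    have hz : Isot 2 (x + u) := by
      refine ⟨fun h0 => ?_, ?_⟩
      · have := congrArg (fun z => hh z v) h0
        simp only [add_left hF, hxv, comm_one hF hvu, zero_add, zero_left hF] at this
        exact one_ne_zero this
      · rw [add_left hF, add_right hF, add_right hF, hx.2, hux, hxu, hu, add_zero, add_zero]
    obtain ⟨s₁, hs₁⟩ := exists_pt hF hz
    obtain ⟨s₂, hs₂⟩ := exists_pt hF hx
    refine ⟨s₁ * s₂, mul_mem (Subgroup.subset_closure ⟨_, hs₁, InW.add hF hxW huW, hzu⟩)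
      (Subgroup.subset_closure ⟨_, hs₂, hxW, hxu⟩), fun y hy hyu => ⟨hh y x, ?_⟩, 1, ?_⟩
    · rw [act_mul, hs₂.2, hs₁.2, act_one]
      simp only [add_left hF, smul_left hF, add_right hF, hyu, hx.2, hxu, add_zero, mul_zero]
      rw [smul_add, ← add_assoc, add_assoc y, vadd_self hF, add_zero]
    · rw [act_mul, hs₂.act_of_perp hvx, hs₁.2, add_right hF, hvx, hvu, zero_add, one_smul]
      module
  · rintro x y hx hy ⟨t₁, ht₁, c₁, d₁, hd₁⟩ ⟨t₂, ht₂, c₂, d₂, hd₂⟩
    obtain ⟨hyu, hyv, hyW⟩ := (inW_hyp hF hw).1 hy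
    refine ⟨t₁ * t₂, mul_mem ht₁ ht₂, ?_, ?_⟩
    · have := Cong.mul hF c₁ c₂ (act_of_mem_TU hF ht₁) (Fixes.one Φ) (act_one u)
      rwa [mul_one] at this
    · obtain ⟨p, hp⟩ := c₁ y hyW hyu
      rw [act_one] at hp
      refine ⟨d₁ + p + d₂, ?_⟩
      rw [act_mul, hd₂, act_add, act_add, act_smul, act_of_mem_TU hF ht₁, hd₁, hp]
      module

/-- An element fixing `Φ` and `u` is, modulo elements generated by points orthogonal to `u` and congruent
to the identity, one which fixes `v` as well. -/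
theorem exists_levi {Φ : Fin k → Vn} (hΦ : Ortho Φ) (hk : k + 4 ≤ n) {u v : Vn} (huW : InW Φ u)
    (hvW : InW Φ v) (hu : hh u u = 0) (hv : hh v v = 0) (hvu : hh v u = 1) {g : SUn} (hg : Fixes Φ g)
    (hgu : act g u = u) :
    ∃ t ∈ Subgroup.closure (UPts Φ u), Fixes Φ (t * g) ∧ act (t * g) u = u ∧ act (t * g) v = v ∧
      ∀ N : ℕ, g ^ N = 1 → (t * g) ^ N = 1 := by
  set x := act g v with hx
  have hxW : InW Φ x := hvW.act hg
  have hxu : hh x u = 1 := by rw [hx, ← hgu, act_form, hvu]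
  have hxx : hh x x = 0 := by rw [hx, act_form, hv]
  obtain ⟨t₁, ht₁, hc₁, c, hc⟩ := exists_shift hF hΦ hk huW hvW hu hv hvu (r := x + v + hh x v • u)
    (InW.add hF (InW.add hF hxW hvW) (InW.smul hF _ huW))
    (by rw [add_left hF, add_left hF, smul_left hF, hxu, hvu, hu, mul_zero, add_zero]; exact add_self hF 1)
    (by rw [add_left hF, add_left hF, smul_left hF, hv, add_zero, comm_one hF hvu, mul_one]
        exact add_self hF _)
  have ht₁u := act_of_mem_TU hF ht₁
  obtain ⟨d, hd⟩ : ∃ d : F, act t₁⁻¹ x = v + d • u := by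
    refine ⟨hh x v + c, ?_⟩
    rw [← act_inv_apply t₁ (v + (hh x v + c) • u), act_add, act_smul, ht₁u, hc]
    congr 1
    have := vadd_self hF v
    have h' := vadd_self hF (hh x v • u)
    have h'' := vadd_self hF (c • u)
    linear_combination (norm := module) -this - h' - h''
  have hd2 : d ^ 2 + d = 0 := by
    have h := act_form (t₁⁻¹) x x
    rw [hd, hxx] at h
    simp only [add_left hF, add_right hF, smul_left hF, smul_right hF, hu, hv, hvu, comm_one hF hvu] at h
    linear_combination h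
  obtain ⟨t₂, ht₂, hc₂, ht₂v⟩ : ∃ t₂ ∈ Subgroup.closure (UPts Φ u), Cong Φ u t₂ 1 ∧
      act t₂ (v + d • u) = v := by
    rcases mul_eq_zero.1 (show d * (d + 1) = 0 by linear_combination hd2) with h | h
    · exact ⟨1, one_mem _, Cong.refl Φ u 1, by rw [h, zero_smul, add_zero, act_one]⟩
    · have hu0 : u ≠ 0 := fun h0 => by rw [h0, zero_right hF] at hvu; exact zero_ne_one hvu
      obtain ⟨s, hs⟩ := exists_pt hF (v := u) ⟨hu0, hu⟩
      have hd1 : d = 1 := by linear_combination h - add_self hF (1 : F)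
      refine ⟨s, Subgroup.subset_closure ⟨u, hs, huW, hu⟩, fun y _ hyu => ⟨0, ?_⟩, ?_⟩
      · rw [act_one, hs.act_of_perp hyu, zero_smul, add_zero]
      · rw [hd1, one_smul, hs.2, add_left hF, hvu, hu, add_zero, one_smul, add_assoc, vadd_self hF, add_zero]
  have ht : t₂ * t₁⁻¹ ∈ Subgroup.closure (UPts Φ u) := mul_mem ht₂ (inv_mem ht₁)
  have hfix : Fixes Φ (t₂ * t₁⁻¹ * g) := (fixes_of_mem_TU hF ht).mul hg
  have hfu : act (t₂ * t₁⁻¹ * g) u = u := by rw [act_mul, hgu, act_of_mem_TU hF ht]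
  have hfv : act (t₂ * t₁⁻¹ * g) v = v := by rw [act_mul, act_mul, ← hx, hd, ht₂v]
  refine ⟨_, ht, hfix, hfu, hfv, fun N hN => ?_⟩
  have hinv : Cong Φ u t₁⁻¹ 1 := by
    intro y hy hyu
    obtain ⟨p, hp⟩ := hc₁ y hy hyu
    rw [act_one] at hp
    refine ⟨p, ?_⟩
    have := act_inv_apply t₁ y
    rw [hp, act_add, act_smul, act_inv_fix ht₁u] at this
    rw [act_one]
    conv_rhs => rw [← this]
    rw [add_assoc, vadd_self hF, add_zero]
  have hcong : Cong Φ u (t₂ * t₁⁻¹ * g) g := by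
    have := Cong.mul hF (Cong.mul hF hc₂ hinv (act_of_mem_TU hF ht₂) (Fixes.one Φ) (act_one u))
      (Cong.refl Φ u g) (act_of_mem_TU hF ht) hg hgu
    rwa [mul_one, one_mul] at this
  have hpow : ∀ j : ℕ, Cong Φ u ((t₂ * t₁⁻¹ * g) ^ j) (g ^ j) := by
    intro j
    induction j with
    | zero => rw [pow_zero, pow_zero]; exact Cong.refl Φ u 1
    | succ j ih => rw [pow_succ, pow_succ]; exact Cong.mul hF ih hcong (act_pow_fix hfu j) hg hgu
  refine eq_of_cong hF hΦ huW hvW hu hv hvu (hfix.pow N) (Fixes.one Φ) (act_pow_fix hfu N) (act_one u)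
    (act_pow_fix hfv N) (act_one v) ?_
  have := hpow N
  rwa [hN] at this

/-- A group of 2-power order fixing `Φ` fixes a nonzero vector of `W(Φ)`. -/
theorem exists_fixed {Φ : Fin k → Vn} (hk : k < n) {P : Subgroup SUn} (hP : IsPGroup 2 P)
    (hfix : ∀ g ∈ P, Fixes Φ g) : ∃ y, y ≠ 0 ∧ InW Φ y ∧ ∀ g ∈ P, act g y = y := by
  haveI : Fact (Nat.Prime 2) := ⟨Nat.prime_two⟩
  let S : AddSubgroup Vn :=
    { carrier := {y | InW Φ y}
      zero_mem' := InW.zero hF Φ
      add_mem' := fun {a b} ha hb => InW.add hF ha hb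
      neg_mem' := fun {a} ha => by
        show InW Φ (-a)
        rw [neg_eq_of_add_eq_zero_left (vadd_self hF a)]
        exact ha }
  obtain ⟨e, he0, he⟩ := exists_nonzeroW hF Φ hk
  have h2 : 2 ∣ Nat.card S := by
    have : addOrderOf (⟨e, he⟩ : S) = 2 := by
      refine addOrderOf_eq_prime ?_ fun h => he0 (congrArg Subtype.val h)
      refine Subtype.ext ?_
      rw [AddSubgroup.coe_nsmul, two_nsmul, vadd_self hF]
      rfl
    exact this ▸ addOrderOf_dvd_natCard _
  letI : MulAction P S :=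
    { smul := fun g y => ⟨act (g : SUn) (y : Vn), (show InW Φ (y : Vn) from y.2).act (hfix _ g.2)⟩
      one_smul := fun y => Subtype.ext (act_one _)
      mul_smul := fun g g' y => Subtype.ext (act_mul (g : SUn) (g' : SUn) (y : Vn)) }
  obtain ⟨b, hb, hb0⟩ := hP.exists_fixed_point_of_prime_dvd_card_of_fixed_point S h2 (a := 0)
    (fun g => Subtype.ext (act_zero _))
  exact ⟨b, fun h => hb0 (Subtype.ext h.symm), b.2, fun g hg => congrArg Subtype.val (hb ⟨g, hg⟩)⟩

/-- A group of 2-power order fixing `Φ` fixes an isotropic vector of `W(Φ)`. -/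
theorem exists_fixed_iso {Φ : Fin k → Vn} (hk : k + 2 ≤ n) {P : Subgroup SUn} (hP : IsPGroup 2 P)
    (hfix : ∀ g ∈ P, Fixes Φ g) : ∃ y, Isot 2 y ∧ InW Φ y ∧ ∀ g ∈ P, act g y = y := by
  obtain ⟨x, hx0, hx, hxf⟩ := exists_fixed hF (by omega) hP hfix
  rcases norm_zero_or_one hF x with h | h
  · exact ⟨x, ⟨hx0, h⟩, hx, hxf⟩
  obtain ⟨y, hy0, hy, hyf⟩ := exists_fixed hF (Φ := (Fin.cons x Φ : Fin (k + 1) → Vn)) (by omega) hP
    fun g hg => fixes_cons.2 ⟨hxf g hg, hfix g hg⟩
  obtain ⟨hyx, hyW⟩ := inW_cons.1 hy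
  rcases norm_zero_or_one hF y with h' | h'
  · exact ⟨y, ⟨hy0, h'⟩, hyW, hyf⟩
  · exact ⟨x + y, add_isot hF h h' ((comm_zero hF).1 hyx), InW.add hF hx hyW,
      fun g hg => by rw [act_add, hxf g hg, hyf g hg]⟩

theorem fixes_zpowers {Φ : Fin k → Vn} {g : SUn} (hg : Fixes Φ g) : ∀ x ∈ Subgroup.zpowers g, Fixes Φ x := by
  have _ := hF
  intro x hx
  rw [Subgroup.zpowers_eq_closure] at hx
  exact fixes_of_mem_closure (fun y hy => by rw [Set.mem_singleton_iff.1 hy]; exact hg) hx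

theorem isPGroup_zpowers {g : SUn} {a : ℕ} (hg : g ^ (2 ^ a) = 1) : IsPGroup 2 (Subgroup.zpowers g) := by
  have _ := hF
  rintro ⟨x, i, rfl⟩
  refine ⟨a, Subtype.ext ?_⟩
  show (g ^ i) ^ (2 ^ a) = 1
  rw [← zpow_natCast (g ^ i), ← _root_.zpow_mul, mul_comm, _root_.zpow_mul, zpow_natCast, hg, _root_.one_zpow]

/-- The base case: in dimension four, a 2-element fixing a hyperbolic pair is trivial or a point. -/
theorem levi_four {Φ : Fin k → Vn} (hΦ : Ortho Φ) (hk : k + 4 = n) {u v : Vn} (huW : InW Φ u)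
    (hvW : InW Φ v) (hu : hh u u = 0) (hv : hh v v = 0) (hvu : hh v u = 1) {g : SUn} {a : ℕ}
    (hg : g ^ (2 ^ a) = 1) (hfix : Fixes Φ g) (hgu : act g u = u) (hgv : act g v = v) :
    g ∈ Subgroup.closure (UPts Φ u) := by
  obtain ⟨w, -, hw⟩ := exists_omega' hF
  have := charTwo hF
  set Ψ : Fin (k + 2) → Vn := Fin.cons (u + (w * w) • v) (Fin.cons (u + w • v) Φ : Fin (k + 1) → Vn)
    with hΨ
  have hΨo : Ortho Ψ := hΦ.hyp hF huW hvW hu hv hvu hw
  have hgΨ : Fixes Ψ g :=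
    fixes_cons.2 ⟨by rw [act_add, act_smul, hgu, hgv], fixes_cons.2 ⟨by rw [act_add, act_smul, hgu, hgv], hfix⟩⟩
  obtain ⟨r, hr0, hr, hrf⟩ := exists_fixed hF (Φ := Ψ) (by omega) (isPGroup_zpowers hF hg)
      (fixes_zpowers hF hgΨ)
  have hgr : act g r = r := hrf g (Subgroup.mem_zpowers g)
  obtain ⟨hru, hrv, hrW⟩ := (inW_hyp hF hw).1 hr
  rcases norm_zero_or_one hF r with h | h
  · -- isotropic fixed vector
    obtain ⟨y, hy, hyR, hyr⟩ := exists_isoPartner hF hΨo ⟨hr0, h⟩ hr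
    have hfull := hΨo.hyp hF hr hyR h hy.2 hyr hw
    obtain ⟨hyu, hyv, -⟩ := (inW_hyp hF hw).1 hyR
    set x := act g y with hx
    have hxR : InW Ψ x := hyR.act hgΨ
    have hxr : hh x r = 1 := by rw [hx, ← hgr, act_form, hyr]
    set β := hh x y with hβ
    have hxe : x = y + β • r := by
      have h0 := eq_zero_of_full hF hfull (by omega) (y := x + (y + β • r)) ((inW_hyp hF hw).2 ⟨?_, ?_,
        InW.add hF hxR (InW.add hF hyR (InW.smul hF β hr))⟩)
      · rw [← add_zero x, ← vadd_self hF (y + β • r), ← add_assoc, h0, zero_add]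
      · simp only [add_left hF, smul_left hF, hxr, hyr, h, mul_zero, add_zero]
        exact add_self hF 1
      · simp only [add_left hF, smul_left hF, ← hβ, hy.2, comm_one hF hyr, zero_add, mul_one]
        exact add_self hF β
    have hb2 : β ^ 2 + β = 0 := by
      have hf := act_form g y y
      rw [← hx, hxe, hy.2] at hf
      simp only [add_left hF, add_right hF, smul_left hF, smul_right hF, h, hy.2, hyr, comm_one hF hyr] at hf
      linear_combination hf
    have hR : ∀ z, InW Φ z → hh z u = 0 → hh z v = 0 → z = hh z y • r + hh z r • y := by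
      intro z hz hzu hzv
      have hzR : InW Ψ z := (inW_hyp hF hw).2 ⟨hzu, hzv, hz⟩
      have h0 := eq_zero_of_full hF hfull (by omega) (y := z + (hh z y • r + hh z r • y))
        ((inW_hyp hF hw).2 ⟨?_, ?_, InW.add hF hzR (InW.add hF (InW.smul hF _ hr) (InW.smul hF _ hyR))⟩)
      · exact (eq_neg_of_add_eq_zero_left h0).trans (neg_eq_of_add_eq_zero_left (vadd_self hF _))
      · simp only [add_left hF, smul_left hF, hyr, h, mul_zero, zero_add, mul_one]
        exact add_self hF _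
      · simp only [add_left hF, smul_left hF, hy.2, comm_one hF hyr, add_zero, mul_one, mul_zero]
        exact add_self hF _
    rcases mul_eq_zero.1 (show β * (β + 1) = 0 by linear_combination hb2) with h' | h'
    · rw [ext_split hF hΦ huW hvW hu hv hvu (g := g) (g' := 1) (fun i => by rw [hfix i, act_one])
        (by rw [hgu, act_one]) (by rw [hgv, act_one]) fun z hz hzu hzv => ?_]
      · exact one_mem _
      · rw [act_one]
        conv_rhs => rw [hR z hz hzu hzv]
        conv_lhs => rw [hR z hz hzu hzv]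
        rw [act_add, act_smul, act_smul, hgr, ← hx, hxe, h', zero_smul, add_zero]
    · obtain ⟨t, ht⟩ := exists_pt hF (v := r) ⟨hr0, h⟩
      have hb1 : β = 1 := by linear_combination h' - add_self hF (1 : F)
      rw [ext_split hF hΦ huW hvW hu hv hvu (g := g) (g' := t)
        (fun i => by rw [hfix i, ht.act_of_perp ((comm_zero hF).1 (hrW i))])
        (by rw [hgu, ht.act_of_perp ((comm_zero hF).1 hru)])
        (by rw [hgv, ht.act_of_perp ((comm_zero hF).1 hrv)]) fun z hz hzu hzv => ?_]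
      · exact Subgroup.subset_closure ⟨r, ht, hrW, hru⟩
      · rw [hR z hz hzu hzv, act_add, act_add, act_smul, act_smul, act_smul, act_smul, hgr, ← hx, hxe, hb1,
          one_smul, ht.act_self, ht.2 y, hyr, one_smul]
  · -- anisotropic fixed vector
    obtain ⟨e, he, hee⟩ := exists_unit hF (hΨo.cons hF hr h) (by omega)
    have hfull := (hΨo.cons hF hr h).cons hF he hee
    obtain ⟨her, heR⟩ := inW_cons.1 he
    set x := act g e with hx
    have hxR : InW Ψ x := heR.act hgΨ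
    have hxr : hh x r = 0 := by rw [hx, ← hgr, act_form, her]
    set l := hh x e with hl
    have hxe : x = l • e := by
      have h0 := eq_zero_of_full hF hfull (by omega) (y := x + l • e) (inW_cons.2 ⟨?_, inW_cons.2 ⟨?_,
        InW.add hF hxR (InW.smul hF l heR)⟩⟩)
      · rw [← add_zero x, ← vadd_self hF (l • e), ← add_assoc, h0, zero_add]
      · rw [add_left hF, smul_left hF, hee, mul_one, ← hl]
        exact add_self hF l
      · rw [add_left hF, smul_left hF, hxr, her, mul_zero, add_zero]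
    have hpow : ∀ j : ℕ, act (g ^ j) e = l ^ j • e := by
      intro j
      induction j with
      | zero => rw [pow_zero, pow_zero, act_one, one_smul]
      | succ j ih => rw [pow_succ, act_mul, ← hx, hxe, act_smul, ih, smul_smul, pow_succ']
    have he0 : e ≠ 0 := fun h0 => by rw [h0, zero_left hF] at hee; exact zero_ne_one hee
    have hl1 : l ^ (2 ^ a) = 1 := by
      have h1 := hpow (2 ^ a)
      rw [hg, act_one] at h1
      have h2 : (l ^ (2 ^ a) - 1) • e = 0 := by rw [sub_smul, one_smul, ← h1, sub_self]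
      exact sub_eq_zero.1 ((smul_eq_zero.1 h2).resolve_right he0)
    have hl' : l = 1 := by
      have h1 : (l + 1) ^ (2 ^ a) = 0 := by
        rw [add_pow_char_pow, hl1, one_pow]
        exact add_self hF 1
      linear_combination (pow_eq_zero_iff (by positivity)).1 h1 - add_self hF (1 : F)
    rw [ext_split hF hΦ huW hvW hu hv hvu (g := g) (g' := 1) (fun i => by rw [hfix i, act_one])
      (by rw [hgu, act_one]) (by rw [hgv, act_one]) fun z hz hzu hzv => ?_]
    · exact one_mem _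
    · have hzR : InW Ψ z := (inW_hyp hF hw).2 ⟨hzu, hzv, hz⟩
      have h0 := eq_zero_of_full hF hfull (by omega) (y := z + (hh z e • e + hh z r • r))
        (inW_cons.2 ⟨?_, inW_cons.2 ⟨?_, InW.add hF hzR (InW.add hF (InW.smul hF _ heR) (InW.smul hF _ hr))⟩⟩)
      · have hz' : z = hh z e • e + hh z r • r :=
          (eq_neg_of_add_eq_zero_left h0).trans (neg_eq_of_add_eq_zero_left (vadd_self hF _))
        rw [act_one]
        conv_rhs => rw [hz']
        conv_lhs => rw [hz']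
        rw [act_add, act_smul, act_smul, hgr, ← hx, hxe, hl', one_smul]
      · rw [add_left hF, add_left hF, smul_left hF, smul_left hF, hee, (comm_zero hF).1 her, mul_zero, add_zero,
          mul_one]
        exact add_self hF _
      · rw [add_left hF, add_left hF, smul_left hF, smul_left hF, her, h, mul_zero, zero_add, mul_one]
        exact add_self hF _

/-- Every 2-element fixing `Φ` is generated by the points of `W(Φ)`, when this has dimension at least four. -/
theorem mem_TW : ∀ (m : ℕ) {k : ℕ} {Φ : Fin k → Vn}, Ortho Φ → k + (m + 4) = n → ∀ {g : SUn} {a : ℕ},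
    g ^ (2 ^ a) = 1 → Fixes Φ g → g ∈ Subgroup.closure (WPts Φ) := by
  intro m
  induction m with
  | zero =>
    intro k Φ hΦ hk g a hg hfix
    obtain ⟨u, hu, huW, huf⟩ := exists_fixed_iso hF (Φ := Φ) (by omega) (isPGroup_zpowers hF hg)
      (fixes_zpowers hF hfix)
    obtain ⟨v, hv, hvW, hvu⟩ := exists_isoPartner hF hΦ hu huW
    obtain ⟨t, ht, hf, hfu, hfv, hN⟩ := exists_levi hF hΦ (by omega) huW hvW hu.2 hv.2 hvu hfix
      (huf g (Subgroup.mem_zpowers g))
    have h1 := levi_four hF hΦ (by omega) huW hvW hu.2 hv.2 hvu (hN _ hg) hf hfu hfv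
    have h2 := mul_mem (inv_mem ht) h1
    rw [inv_mul_cancel_left] at h2
    exact Subgroup.closure_mono (uPts_subset Φ u) h2
  | succ m ih =>
    intro k Φ hΦ hk g a hg hfix
    obtain ⟨u, hu, huW, huf⟩ := exists_fixed_iso hF (Φ := Φ) (by omega) (isPGroup_zpowers hF hg)
      (fixes_zpowers hF hfix)
    obtain ⟨v, hv, hvW, hvu⟩ := exists_isoPartner hF hΦ hu huW
    obtain ⟨t, ht, hf, hfu, hfv, hN⟩ := exists_levi hF hΦ (by omega) huW hvW hu.2 hv.2 hvu hfix
      (huf g (Subgroup.mem_zpowers g))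
    obtain ⟨w, -, hw⟩ := exists_omega' hF
    have hee : hh (u + w • v) (u + w • v) = 1 := by
      simp only [add_left hF, add_right hF, smul_left hF, smul_right hF, hu.2, hv.2, hvu, comm_one hF hvu]
      linear_combination hw - add_self hF (1 : F)
    have h1 := ih (hΦ.cons hF (InW.add hF huW (InW.smul hF w hvW)) hee) (by omega) (hN _ hg)
      (fixes_cons.2 ⟨by rw [act_add, act_smul, hfu, hfv], hf⟩)
    have h2 := mul_mem (inv_mem (Subgroup.closure_mono (uPts_subset Φ u) ht))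
      (Subgroup.closure_mono (wPts_cons_subset Φ _) h1)
    rwa [inv_mul_cancel_left] at h2

/-- Modulo congruence, elements generated by points orthogonal to `u` are generated by points of the
orthogonal of the hyperbolic pair. -/
theorem exists_congR {Φ : Fin k → Vn} {u v : Vn} (huW : InW Φ u) (hu : hh u u = 0) (hvu : hh v u = 1)
    {g : SUn} (hg : g ∈ Subgroup.closure (UPts Φ u)) :
    ∃ t ∈ Subgroup.closure {x | ∃ z, IsPt x z ∧ InW Φ z ∧ hh z u = 0 ∧ hh z v = 0}, Cong Φ u g t := by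
  set R : Set SUn := {x | ∃ z, IsPt x z ∧ InW Φ z ∧ hh z u = 0 ∧ hh z v = 0} with hR
  have hsub : R ⊆ UPts Φ u := fun x ⟨z, hz, hW, h1, _⟩ => ⟨z, hz, hW, h1⟩
  have hfu : ∀ t ∈ Subgroup.closure R, act t u = u ∧ Fixes Φ t := fun t ht =>
    ⟨act_of_mem_TU hF (Subgroup.closure_mono hsub ht), fixes_of_mem_TU hF (Subgroup.closure_mono hsub ht)⟩
  refine Subgroup.closure_induction
    (p := fun g _ => ∃ t ∈ Subgroup.closure R, Cong Φ u g t) ?_ ⟨1, one_mem _, Cong.refl Φ u 1⟩ ?_ ?_ hg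
  · rintro x ⟨z, hz, hzW, hzu⟩
    set r := z + hh z v • u with hr
    have hru : hh r u = 0 := by rw [hr, add_left hF, smul_left hF, hzu, hu, mul_zero, add_zero]
    have hrv : hh r v = 0 := by
      rw [hr, add_left hF, smul_left hF, comm_one hF hvu, mul_one]
      exact add_self hF _
    have hzr : z = r + hh z v • u := by rw [hr, add_assoc, vadd_self hF, add_zero]
    by_cases hr0 : r = 0
    · refine ⟨1, one_mem _, fun y _ hyu => ⟨0, ?_⟩⟩
      rw [hr0, zero_add] at hzr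
      rw [hz.act_of_perp (by rw [hzr, smul_right hF, hyu, mul_zero]), act_one, zero_smul, add_zero]
    · have huz : hh u z = 0 := (comm_zero hF).1 hzu
      have hrr : hh r r = 0 := by
        simp only [hr, add_left hF, add_right hF, smul_left hF, smul_right hF, hz.1.2, hzu, huz, hu, mul_zero,
          add_zero]
      obtain ⟨t, ht⟩ := exists_pt hF (v := r) ⟨hr0, hrr⟩
      refine ⟨t, Subgroup.subset_closure ⟨r, ht, InW.add hF hzW (InW.smul hF _ huW), hru, hrv⟩,
        fun y _ hyu => ⟨hh y r * hh z v, ?_⟩⟩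
      have hyz : hh y z = hh y r := by
        rw [hzr, add_right hF, smul_right hF, hyu, mul_zero, add_zero]
      rw [hz.2, ht.2, hyz]
      conv_lhs => arg 2; arg 2; rw [hzr]
      module
  · rintro a b ha hb ⟨t, ht, hat⟩ ⟨t', ht', hbt'⟩
    exact ⟨t * t', mul_mem ht ht', Cong.mul hF hat hbt' (act_of_mem_TU hF ha) (hfu t' ht').2 (hfu t' ht').1⟩
  · rintro a ha ⟨t, ht, hat⟩
    refine ⟨t⁻¹, inv_mem ht, ?_⟩
    have hau := act_inv_fix (act_of_mem_TU hF ha)
    have htu := act_inv_fix (hfu t ht).1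
    have h1 := Cong.mul hF (Cong.refl Φ u a⁻¹) (Cong.symm hF hat) hau (fixes_of_mem_TU hF ha)
      (act_of_mem_TU hF ha)
    rw [inv_mul_cancel] at h1
    have h2 := Cong.mul hF h1 (Cong.refl Φ u t⁻¹) (by rw [act_mul, (hfu t ht).1, hau]) (hfu t ht).2.inv htu
    rw [mul_assoc, mul_inv_cancel, mul_one, one_mul] at h2
    exact h2

end CfsgLib.SURadical
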