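import Cfsg.Agent.Lib.ThreeTransp.SURadical.Graph

/-!
# Central extensions of `SUₙ(2)` in which the points lift uniquely

If a central extension by a 2-group has a family of lifts of the points, compatible with conjugation, such
that over each point the lifts of the points commuting with it meet the kernel trivially, then all lifts
together meet the kernel trivially. The proof is by transfer to an odd index subgroup, inductively along
the orthogonals of orthonormal systems. Also: two non-commuting points and the points commuting with one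
of them generate everything.
-/

set_option autoImplicit false

namespace CfsgLib.SURadical

open Matrix Cfsg
open CfsgLib.PSUAut

variable {F : Type} [Field F] [Fintype F] {n k : ℕ}

local notation "Vn" => Fin n → F
local notation "hh" => Cfsg.hermForm n F 2
local notation "SUn" => (Cfsg.SU n F 2)

/-- The stabiliser of a vector. -/
def stabV (u : Vn) : Subgroup SUn where
  carrier := {g | act g u = u}
  one_mem' := act_one u
  mul_mem' {a b} ha hb := show act (a * b) u = u by rw [act_mul, hb, ha]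
  inv_mem' ha := act_inv_fix ha

variable (hF : Fintype.card F = 2 ^ 2)
include hF

/-- Two non-commuting points and the points commuting with one of them generate all points. -/
theorem point_mem_closure (hn : 4 ≤ n) {a b : SUn} {u v₀ : Vn} (ha : IsPt a u) (hb₀ : IsPt b v₀)
    (hab : ¬ Commute a b) {x : SUn} {z₀ : Vn} (hx : IsPt x z₀) :
    x ∈ Subgroup.closure {y : SUn | (∃ w, IsPt y w) ∧ (Commute y a ∨ Commute y b)} := by
  set S : Set SUn := {y : SUn | (∃ w, IsPt y w) ∧ (Commute y a ∨ Commute y b)} with hS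
  obtain ⟨v, hb, hvu⟩ : ∃ v, IsPt b v ∧ hh v u = 1 := by
    have h0 : hh v₀ u ≠ 0 := fun h => hab ((ha.commute_iff hF hb₀).2 ((comm_zero hF).1 h))
    exact ⟨(hh v₀ u)⁻¹ • v₀, hb₀.smul hF (inv_ne_zero h0), by rw [smul_left hF, inv_mul_cancel₀ h0]⟩
  have huv := comm_one hF hvu
  have hbS : b ∈ S := ⟨⟨v, hb⟩, Or.inr (Commute.refl b)⟩
  have viaU : ∀ {y : SUn} {w : Vn}, IsPt y w → hh w u = 0 → y ∈ Subgroup.closure S := fun hy h =>
    Subgroup.subset_closure ⟨⟨_, hy⟩, Or.inl ((hy.commute_iff hF ha).2 h)⟩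
  have viaV : ∀ {y : SUn} {w : Vn}, IsPt y w → hh w v = 0 → y ∈ Subgroup.closure S := fun hy h =>
    Subgroup.subset_closure ⟨⟨_, hy⟩, Or.inr ((hy.commute_iff hF hb).2 h)⟩
  set α := hh z₀ u with hα
  set β := hh z₀ v with hβ
  by_cases hα0 : α = 0
  · exact viaU hx hα0
  by_cases hβ0 : β = 0
  · exact viaV hx hβ0
  -- conjugating by a point commuting with `b`
  have back : ∀ {t : SUn} {z : Vn}, IsPt t z → hh z v = 0 → hh z₀ z * hh z u = α → x ∈ Subgroup.closure S := by
    intro t z ht hzv hz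
    have hx' : t * x * t ∈ Subgroup.closure S := viaU (ht.cj hF hx) (by
      rw [add_left hF, smul_left hF, hz, ← hα]
      exact add_self hF α)
    have := mul_mem (mul_mem (viaV ht hzv) hx') (viaV ht hzv)
    rwa [show t * (t * x * t) * t = (t * t) * x * (t * t) by simp only [mul_assoc], ht.mul_self hF, one_mul,
      mul_one] at this
  by_cases hδ : α + β = 0
  · refine back hb hb.1.2 ?_
    rw [hvu, mul_one, ← hβ]
    linear_combination hδ - add_self hF α
  · obtain ⟨w, -, hw⟩ := exists_omega' hF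
    have hΦ : Ortho (Fin.elim0 : Fin 0 → Vn) := Ortho.nil _
    have hW : ∀ y : Vn, InW (Fin.elim0 : Fin 0 → Vn) y := fun _ i => i.elim0
    set r := z₀ + α • v + β • u with hr
    have hru : hh r u = 0 := by
      rw [hr, add_left hF, add_left hF, smul_left hF, smul_left hF, hvu, ha.1.2, ← hα, mul_zero, add_zero, mul_one]
      exact add_self hF α
    have hrv : hh r v = 0 := by
      rw [hr, add_left hF, add_left hF, smul_left hF, smul_left hF, hb.1.2, huv, ← hβ, mul_zero, add_zero, mul_one]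
      exact add_self hF β
    have hz₀ : z₀ = r + α • v + β • u := by
      have h1 := vadd_self hF (α • v)
      have h2 := vadd_self hF (β • u)
      rw [hr]
      linear_combination (norm := module) -h1 - h2
    have hr0 : r ≠ 0 := by
      intro h0
      have h := hx.1.2
      rw [hz₀, h0, zero_add] at h
      simp only [add_left hF, add_right hF, smul_left hF, smul_right hF, ha.1.2, hb.1.2, hvu, huv] at h
      have : α * β * (α + β) = 0 := by linear_combination h
      rcases mul_eq_zero.1 this with h' | h'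
      · rcases mul_eq_zero.1 h' with h'' | h''
        · exact hα0 h''
        · exact hβ0 h''
      · exact hδ h'
    have hR := hΦ.hyp hF (hW u) (hW v) ha.1.2 hb.1.2 hvu hw
    obtain ⟨y, hy, hyR, hyr⟩ := exists_isoTest hF hR (by omega) ((inW_hyp hF hw).2 ⟨hru, hrv, hW r⟩) hr0
    obtain ⟨hyu, hyv, -⟩ := (inW_hyp hF hw).1 hyR
    set e := hh r y with he
    have he0 : e ≠ 0 := fun h => hyr ((comm_zero hF).1 h)
    set c := ((α + β) / e) ^ 2 with hc
    have hc2 : c ^ 2 * e = α + β := by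
      have hd : (α + β) / e ≠ 0 := div_ne_zero hδ he0
      calc c ^ 2 * e = ((α + β) / e) ^ 3 * ((α + β) / e) * e := by rw [hc]; ring
        _ = α + β := by rw [cube_eq_one hF hd, one_mul, div_mul_cancel₀ _ he0]
    have hzu : hh (v + c • y) u = 1 := by rw [add_left hF, smul_left hF, hvu, hyu, mul_zero, add_zero]
    have hzv : hh (v + c • y) v = 0 := by rw [add_left hF, smul_left hF, hb.1.2, hyv, mul_zero, add_zero]
    have hz : Isot 2 (v + c • y) := by
      refine ⟨fun h0 => ?_, ?_⟩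
      · rw [h0, zero_left hF] at hzu
        exact zero_ne_one hzu
      · simp only [add_left hF, add_right hF, smul_left hF, smul_right hF, hb.1.2, hy.2, hyv,
          (comm_zero hF).1 hyv, mul_zero, add_zero]
    obtain ⟨t, ht⟩ := exists_pt hF hz
    refine back ht hzv ?_
    rw [hzu, mul_one, add_right hF, smul_right hF, hz₀]
    simp only [add_left hF, smul_left hF, hrv, hb.1.2, huv, (comm_zero hF).1 hyu, (comm_zero hF).1 hyv, ← he]
    linear_combination hc2 + add_self hF β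

/-- A central extension with distinguished lifts of the points. -/
structure IsLift {E : Type*} [Group E] (p : E →* SUn) (s : SUn → E) : Prop where
  central : p.ker ≤ Subgroup.center E
  two : IsPGroup 2 p.ker
  p_s : ∀ x v, IsPt x v → p (s x) = x
  conj : ∀ g x v, IsPt x v → g * s x * g⁻¹ = s (p g * x * (p g)⁻¹)
  local_trivial : ∀ a v, IsPt a v →
    ∀ z ∈ Subgroup.closure (s '' {x | (∃ w, IsPt x w) ∧ Commute x a}), p z = 1 → z = 1

variable {E : Type*} [Group E] {p : E →* (Cfsg.SU n F 2)} {s : (Cfsg.SU n F 2) → E}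

omit hF in
theorem map_closure_lifts (L : IsLift p s) {S : Set SUn} (hS : ∀ x ∈ S, ∃ v, IsPt x v) :
    (Subgroup.closure (s '' S)).map p = Subgroup.closure S := by
  rw [MonoidHom.map_closure, Set.image_image]
  congr 1
  ext y
  constructor
  · rintro ⟨x, hx, rfl⟩
    show p (s x) ∈ S
    obtain ⟨v, hv⟩ := hS x hx
    rw [L.p_s x v hv]
    exact hx
  · intro hy
    obtain ⟨v, hv⟩ := hS y hy
    exact ⟨y, hy, L.p_s y v hv⟩

/-- The odd index step. -/
theorem exists_transfer_step (L : IsLift p s) {Φ : Fin k → Vn} (hΦ : Ortho Φ) (hk : k + 4 ≤ n) {u v : Vn}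
    (hu : Isot 2 u) (huW : InW Φ u) (hv : Isot 2 v) (hvW : InW Φ v) (hvu : hh v u = 1)
    {K : Subgroup E} (hK : K ≤ Subgroup.closure (s '' WPts Φ)) (hKu : ∀ q ∈ K, act (p q) u = u)
    (hkey : ∀ q ∈ K, p q ∈ Subgroup.closure (UPts Φ u) → q ∈ Subgroup.closure (s '' UPts Φ u))
    (hsurj : ∀ (g : SUn) (a : ℕ), g ^ (2 ^ a) = 1 → Fixes Φ g → act g u = u → act g v = v →
      g ∈ (Subgroup.closure (s '' UPts Φ u) ⊔ K).map p) :
    ∃ B : Subgroup E, B ≤ Subgroup.closure (s '' WPts Φ) ∧ (∀ z ∈ B, p z = 1 → z = 1) ∧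
      ∀ (g : SUn) (a : ℕ), g ^ (2 ^ a) = 1 → Fixes Φ g → act g u = u → g ∈ B.map p := by
  set X := Subgroup.closure (s '' UPts Φ u) with hX
  have hXp : X.map p = Subgroup.closure (UPts Φ u) :=
    map_closure_lifts L fun x ⟨w, hw, _⟩ => ⟨w, hw⟩
  have hWp : (Subgroup.closure (s '' WPts Φ)).map p = Subgroup.closure (WPts Φ) :=
    map_closure_lifts L fun x ⟨w, hw, _⟩ => ⟨w, hw⟩
  refine ⟨X ⊔ K, sup_le (Subgroup.closure_mono (Set.image_mono (uPts_subset Φ u))) hK, ?_, ?_⟩
  · have hnorm : ∀ q ∈ K, ∀ x ∈ X, q * x * q⁻¹ ∈ X := by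
      intro q hq x hx
      have hfix : Fixes Φ (p q) := fixes_of_mem_TW hF (hWp ▸ Subgroup.mem_map_of_mem p (hK hq))
      refine Subgroup.closure_induction (p := fun x _ => q * x * q⁻¹ ∈ X) ?_ (by simp) ?_ ?_ hx
      · rintro _ ⟨y, ⟨w, hy, hwW, hwu⟩, rfl⟩
        rw [L.conj q y w hy]
        exact Subgroup.subset_closure ⟨_, ⟨_, hy.conj (p q), hwW.act hfix,
          by rw [← hKu q hq, act_form, hwu]⟩, rfl⟩
      · intro a b _ _ ha hb
        rw [show q * (a * b) * q⁻¹ = (q * a * q⁻¹) * (q * b * q⁻¹) by group]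
        exact mul_mem ha hb
      · intro a _ ha
        rw [show q * a⁻¹ * q⁻¹ = (q * a * q⁻¹)⁻¹ by group]
        exact inv_mem ha
    intro z hz hz1
    obtain ⟨x, hx, q, hq, rfl⟩ : ∃ x ∈ X, ∃ q ∈ K, x * q = z := by
      rw [Subgroup.sup_eq_closure] at hz
      refine Subgroup.closure_induction (p := fun z _ => ∃ x ∈ X, ∃ q ∈ K, x * q = z) ?_
        ⟨1, one_mem _, 1, one_mem _, one_mul 1⟩ ?_ ?_ hz
      · rintro y (hy | hy)
        · exact ⟨y, hy, 1, one_mem _, mul_one y⟩
        · exact ⟨1, one_mem _, y, hy, one_mul y⟩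
      · rintro _ _ _ _ ⟨x, hx, q, hq, rfl⟩ ⟨x', hx', q', hq', rfl⟩
        exact ⟨x * (q * x' * q⁻¹), mul_mem hx (hnorm q hq x' hx'), q * q', mul_mem hq hq', by group⟩
      · rintro _ _ ⟨x, hx, q, hq, rfl⟩
        exact ⟨q⁻¹ * x⁻¹ * (q⁻¹)⁻¹, hnorm _ (inv_mem hq) _ (inv_mem hx), q⁻¹, inv_mem hq, by group⟩
    have hqX : q ∈ X := by
      refine hkey q hq ?_
      rw [map_mul] at hz1
      rw [← hXp, show p q = p x⁻¹ by rw [map_inv]; exact eq_inv_of_mul_eq_one_right hz1]
      exact Subgroup.mem_map_of_mem p (inv_mem hx)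
    obtain ⟨a, ha⟩ := exists_pt hF hu
    refine L.local_trivial a u ha _ ?_ hz1
    refine Subgroup.closure_mono (Set.image_mono ?_) (mul_mem hx hqX)
    rintro y ⟨w, hy, -, hwu⟩
    exact ⟨⟨w, hy⟩, (hy.commute_iff hF ha).2 hwu⟩
  · intro g a hg hfix hgu
    obtain ⟨t, ht, hf, hfu, hfv, hN⟩ := exists_levi hF hΦ hk huW hvW hu.2 hv.2 hvu hfix hgu
    have ht' : t ∈ (X ⊔ K).map p := Subgroup.map_mono le_sup_left (hXp ▸ ht)
    have := mul_mem (inv_mem ht') (hsurj _ a (hN _ hg) hf hfu hfv)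
    rwa [inv_mul_cancel_left] at this

/-- The lifts of the points of `W(Φ)` meet the kernel trivially. -/
theorem lifts_trivial [Finite E] (L : IsLift p s) : ∀ (m : ℕ) {k : ℕ} {Φ : Fin k → Vn}, Ortho Φ →
    k + (m + 4) = n → ∀ z ∈ Subgroup.closure (s '' WPts Φ), p z = 1 → z = 1 := by
  haveI : Fact (Nat.Prime 2) := ⟨Nat.prime_two⟩
  intro m
  induction m using Nat.strong_induction_on with
  | _ m ih => ?_
  intro k Φ hΦ hk
  have hk4 : k + 4 ≤ n := by omega
  set H := Subgroup.closure (s '' WPts Φ) with hH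
  have hWp : H.map p = Subgroup.closure (WPts Φ) :=
    map_closure_lifts L fun x ⟨w, hw, _⟩ => ⟨w, hw⟩
  -- the homomorphism onto the group generated by the points
  let π : H →* Subgroup.closure (WPts Φ) := (p.comp H.subtype).codRestrict _ fun h =>
    hWp ▸ Subgroup.mem_map_of_mem p h.2
  have hπ : Function.Surjective π := by
    rintro ⟨y, hy⟩
    rw [← hWp] at hy
    obtain ⟨h, hh', rfl⟩ := hy
    exact ⟨⟨h, hh'⟩, rfl⟩
  obtain ⟨P⟩ : Nonempty (Sylow 2 (Subgroup.closure (WPts Φ))) := inferInstance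
  obtain ⟨u, hu, huW, huf⟩ := exists_fixed_iso hF (Φ := Φ) (by omega)
    (P.2.map (Subgroup.closure (WPts Φ)).subtype) fun g hg => by
      obtain ⟨y, -, rfl⟩ := hg
      exact fixes_of_mem_TW hF y.2
  obtain ⟨v, hv, hvW, hvu⟩ := exists_isoPartner hF hΦ hu huW
  obtain ⟨w, hw0, hw⟩ := exists_omega' hF
  obtain ⟨K, hK, hKu, hkey, hsurj⟩ : ∃ K : Subgroup E, K ≤ H ∧ (∀ q ∈ K, act (p q) u = u) ∧
      (∀ q ∈ K, p q ∈ Subgroup.closure (UPts Φ u) → q ∈ Subgroup.closure (s '' UPts Φ u)) ∧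
      (∀ (g : SUn) (a : ℕ), g ^ (2 ^ a) = 1 → Fixes Φ g → act g u = u → act g v = v →
        g ∈ (Subgroup.closure (s '' UPts Φ u) ⊔ K).map p) := by
    rcases Nat.eq_zero_or_pos m with hm | hm
    · refine ⟨⊥, bot_le, fun q hq => ?_, fun q hq _ => ?_, fun g a hg hf hgu hgv => ?_⟩
      · rw [Subgroup.mem_bot.1 hq, map_one, act_one]
      · rw [Subgroup.mem_bot.1 hq]; exact one_mem _
      · rw [sup_bot_eq, map_closure_lifts L (S := UPts Φ u) fun x ⟨z, hz, _⟩ => ⟨z, hz⟩]
        exact levi_four hF hΦ (by omega) huW hvW hu.2 hv.2 hvu hg hf hgu hgv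
    · set e := u + w • v with he
      have hee : hh e e = 1 := by
        simp only [he, add_left hF, add_right hF, smul_left hF, smul_right hF, hu.2, hv.2, hvu,
          comm_one hF hvu]
        linear_combination hw - add_self hF (1 : F)
      have heW : InW Φ e := InW.add hF huW (InW.smul hF w hvW)
      have hΦ' := hΦ.cons hF heW hee
      set H' := Subgroup.closure (s '' WPts (Fin.cons e Φ : Fin (k + 1) → Vn)) with hH'
      have hH'p : H'.map p = Subgroup.closure (WPts (Fin.cons e Φ : Fin (k + 1) → Vn)) :=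
        map_closure_lifts L fun x ⟨z, hz, _⟩ => ⟨z, hz⟩
      refine ⟨H' ⊓ (stabV u).comap p,
        inf_le_left.trans (Subgroup.closure_mono (Set.image_mono (wPts_cons_subset Φ e))),
        fun q hq => hq.2, fun q hq hqX => ?_, fun g a hg hf hgu hgv => ?_⟩
      · have hqu : act (p q) u = u := hq.2
        obtain ⟨hqe, hqΦ⟩ := fixes_cons.1 (fixes_of_mem_TW hF (hH'p ▸ Subgroup.mem_map_of_mem p hq.1))
        have hqv : act (p q) v = v := by
          have h1 : act (p q) e = u + w • act (p q) v := by rw [he, act_add, act_smul, hqu]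
          rw [hqe, he, add_right_inj] at h1
          exact (smul_right_injective _ hw0 h1).symm
        obtain ⟨t, ht, hc⟩ := exists_congR hF huW hu.2 hvu (v := v) hqX
        set R : Set SUn := {x | ∃ z, IsPt x z ∧ InW Φ z ∧ hh z u = 0 ∧ hh z v = 0} with hR
        have hRU : R ⊆ UPts Φ u := fun x ⟨z, hz, hW, h1, _⟩ => ⟨z, hz, hW, h1⟩
        have hRW : R ⊆ WPts (Fin.cons e Φ : Fin (k + 1) → Vn) := fun x ⟨z, hz, hW, h1, h2⟩ =>
          ⟨z, hz, inW_cons.2 ⟨by rw [he, add_right hF, smul_right hF, h1, h2, mul_zero, add_zero], hW⟩⟩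
        have htv : act t v = v := by
          refine act_of_mem_closure ?_ ht
          rintro x ⟨z, hz, -, -, h2⟩
          exact hz.act_of_perp ((comm_zero hF).1 h2)
        have heq : p q = t := eq_of_cong hF hΦ huW hvW hu.2 hv.2 hvu hqΦ
          (fixes_of_mem_TU hF (Subgroup.closure_mono hRU ht)) hqu
          (act_of_mem_TU hF (Subgroup.closure_mono hRU ht)) hqv htv hc
        rw [← map_closure_lifts L (S := R) fun x ⟨z, hz, _⟩ => ⟨z, hz⟩] at ht
        obtain ⟨t', ht', htt⟩ := ht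
        have h1 : q * t'⁻¹ = 1 := ih (m - 1) (by omega) hΦ' (by omega) _
          (mul_mem hq.1 (inv_mem (Subgroup.closure_mono (Set.image_mono hRW) ht')))
          (by rw [map_mul, map_inv, htt, heq, mul_inv_cancel])
        rw [mul_inv_eq_one.1 h1]
        exact Subgroup.closure_mono (Set.image_mono hRU) ht'
      · have hf' : Fixes (Fin.cons e Φ : Fin (k + 1) → Vn) g :=
          fixes_cons.2 ⟨by rw [he, act_add, act_smul, hgu, hgv], hf⟩
        have hg' := mem_TW hF (m - 1) hΦ' (by omega) hg hf'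
        rw [← hH'p] at hg'
        obtain ⟨q, hq, hqg⟩ := hg'
        exact ⟨q, Subgroup.mem_sup_right ⟨hq, show act (p q) u = u by rw [hqg, hgu]⟩, hqg⟩
  obtain ⟨B, hB, hB1, hBg⟩ := exists_transfer_step hF L hΦ hk4 hu huW hv hvW hvu hK hKu hkey hsurj
  -- the kernel and the complement inside `H`
  set Z : Subgroup H := π.ker with hZ
  have hZc : ∀ z ∈ Z, ∀ y : H, y * z = z * y := by
    intro z hz y
    refine Subtype.ext (Subgroup.mem_center_iff.1 (L.central ?_) (y : E))
    exact congrArg Subtype.val (MonoidHom.mem_ker.1 hz)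
  have hZmem : ∀ z : H, z ∈ Z ↔ p z = 1 := fun z => by
    rw [hZ, MonoidHom.mem_ker, Subtype.ext_iff]; rfl
  letI : CommGroup Z :=
    { (inferInstance : Group Z) with mul_comm := fun a b => Subtype.ext (hZc b b.2 a) }
  let f : Z × B.subgroupOf H →* H :=
    { toFun := fun x => (x.1 : H) * (x.2 : H)
      map_one' := by simp
      map_mul' := fun x y => by
        simp only [Prod.fst_mul, Prod.snd_mul, Subgroup.coe_mul]
        rw [mul_assoc, mul_assoc]
        congr 1
        rw [← mul_assoc, ← mul_assoc, hZc (y.1 : H) y.1.2 (x.2 : H)] }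
  have hf : Function.Injective f := by
    refine (injective_iff_map_eq_one f).2 ?_
    rintro ⟨⟨z, hz⟩, ⟨b, hb⟩⟩ h
    have hb1 : b = 1 := by
      refine Subtype.ext (hB1 (b : E) hb ?_)
      have h2 := congrArg (fun y : H => p y) (show z * b = 1 from h)
      simpa [(hZmem z).1 hz] using h2
    subst hb1
    simp only [Prod.mk_eq_one, Subgroup.mk_eq_one]
    refine ⟨?_, trivial⟩
    simpa [f] using h
  set A := f.range with hA
  haveI : A.FiniteIndex := Subgroup.finiteIndex_of_finite_quotient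
  let φ : A →* Z := (MonoidHom.fst _ _).comp (MonoidHom.ofInjective hf).symm.toMonoidHom
  have hodd : ¬ 2 ∣ A.index := by
    have hle : Z ≤ A := fun z hz => ⟨(⟨z, hz⟩, 1), by simp [f]⟩
    have hA' : A = (A.map π).comap π := by
      rw [Subgroup.comap_map_eq, ← hZ, sup_eq_left.2 hle]
    rw [hA', Subgroup.index_comap_of_surjective _ hπ]
    refine fun h => P.not_dvd_index (h.trans (Subgroup.index_dvd_of_le ?_))
    intro y hy
    obtain ⟨a, ha⟩ := P.2 ⟨y, hy⟩
    have hyu : act (y : SUn) u = u := huf _ (Subgroup.mem_map_of_mem _ hy)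
    have hy2 : (y : SUn) ^ (2 ^ a) = 1 := by
      have := congrArg (fun g : P => ((g : Subgroup.closure (WPts Φ)) : SUn)) ha
      simpa using this
    obtain ⟨b, hb, hby⟩ := hBg _ a hy2 (fixes_of_mem_TW hF y.2) hyu
    exact ⟨⟨b, hB hb⟩, ⟨(1, ⟨⟨b, hB hb⟩, hb⟩), by simp [f]⟩, Subtype.ext hby⟩
  set τ := MonoidHom.transfer φ with hτ
  have hτZ : ∀ z, z ∈ Z → ((τ z : Z) : H) = z ^ A.index := by
    intro z hz
    have hz' : z ^ A.index ∈ Z := pow_mem hz _
    rw [hτ, MonoidHom.transfer_eq_pow φ z fun j g₀ _ => by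
      rw [mul_assoc, ← hZc (z ^ j) (pow_mem hz j) g₀, inv_mul_cancel_left]]
    have e : (MonoidHom.ofInjective hf) (⟨z ^ A.index, hz'⟩, 1) = ⟨z ^ A.index, ⟨(⟨z ^ A.index, hz'⟩, 1), by
        simp [f]⟩⟩ := Subtype.ext (by simp [f, MonoidHom.ofInjective_apply])
    show (((MonoidHom.ofInjective hf).symm ⟨z ^ A.index, _⟩).1 : H) = _
    rw [show (MonoidHom.ofInjective hf).symm ⟨z ^ A.index, _⟩ = (⟨z ^ A.index, hz'⟩, 1) from
      (MulEquiv.symm_apply_eq _).2 e.symm]
  -- all lifts of points have the same image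
  have hmem : ∀ {x : SUn} {z : Vn}, IsPt x z → InW Φ z → s x ∈ H := fun hx hz =>
    Subgroup.subset_closure ⟨_, ⟨_, hx, hz⟩, rfl⟩
  have hswap : ∀ {x y : SUn} {a b : Vn} (hx : IsPt x a) (ha : InW Φ a) (hy : IsPt y b) (hb : InW Φ b),
      hh a b ≠ 0 → τ ⟨s x, hmem hx ha⟩ = τ ⟨s y, hmem hy hb⟩ := by
    intro x y a b hx ha hy hb hab
    obtain ⟨t, c, hc, ht, hta⟩ := exists_swap hF hx.1 hy.1 hab
    have htm := hmem ht (InW.add hF ha (InW.smul hF c hb))
    have e : (⟨s y, hmem hy hb⟩ : H) = ⟨s t, htm⟩ * ⟨s x, hmem hx ha⟩ * ⟨s t, htm⟩⁻¹ := by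
      refine Subtype.ext ?_
      show s y = s t * s x * (s t)⁻¹
      rw [L.conj (s t) x a hx, L.p_s t _ ht,
        (hx.conj t).unique hF (hta ▸ hy.smul hF hc)]
    rw [e, map_mul, map_mul, mul_comm (τ ⟨s t, htm⟩), mul_assoc, ← map_mul, mul_inv_cancel, map_one, mul_one]
  obtain ⟨x₀, hx₀⟩ := exists_pt hF hu
  set ζ := τ ⟨s x₀, hmem hx₀ huW⟩ with hζ
  have hconst : ∀ {x : SUn} {z : Vn} (hx : IsPt x z) (hz : InW Φ z), τ ⟨s x, hmem hx hz⟩ = ζ := by
    intro x z hx hz
    obtain ⟨z', hz', hz'W, h1, h2⟩ := exists_avoidW hF hΦ hx.1 hz hu huW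
    obtain ⟨y, hy⟩ := exists_pt hF hz'
    rw [← hswap hy hz'W hx hz h1, hswap hy hz'W hx₀ huW h2]
  -- five points of a line
  have hζ1 : ζ = 1 := by
    have hR := hΦ.hyp hF huW hvW hu.2 hv.2 hvu hw
    obtain ⟨r, hr, hrR⟩ := exists_iso hF hR (by omega)
    obtain ⟨hru, hrv, hrW⟩ := (inW_hyp hF hw).1 hrR
    have hur : hh u r = 0 := (comm_zero hF).1 hru
    have hiso : ∀ c : F, Isot 2 (u + c • r) := by
      intro c
      refine ⟨fun h0 => ?_, ?_⟩
      · have := congrArg (fun z => hh z v) h0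
        simp only [add_left hF, smul_left hF, hrv, comm_one hF hvu, mul_zero, add_zero, zero_left hF] at this
        exact one_ne_zero this
      · simp only [add_left hF, add_right hF, smul_left hF, smul_right hF, hu.2, hr.2, hru, hur, mul_zero,
          add_zero]
    have hw2 : w * w ≠ 0 := mul_ne_zero hw0 hw0
    obtain ⟨y₁, hy₁⟩ := exists_pt hF hr
    obtain ⟨y₂, hy₂⟩ := exists_pt hF (hiso 1)
    obtain ⟨y₃, hy₃⟩ := exists_pt hF (hiso w)
    obtain ⟨y₄, hy₄⟩ := exists_pt hF (hiso (w * w))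
    have hW : ∀ c : F, InW Φ (u + c • r) := fun c => InW.add hF huW (InW.smul hF c hrW)
    have hU : ∀ c : F, hh (u + c • r) u = 0 := fun c => by
      rw [add_left hF, smul_left hF, hu.2, hru, mul_zero, add_zero]
    have hprod : s x₀ * s y₁ * s y₂ * s y₃ * s y₄ = 1 := by
      refine L.local_trivial x₀ u hx₀ _ ?_ ?_
      · have hm : ∀ {y : SUn} {z : Vn}, IsPt y z → hh z u = 0 →
            s y ∈ Subgroup.closure (s '' {x | (∃ w, IsPt x w) ∧ Commute x x₀}) := fun hy hz =>
          Subgroup.subset_closure ⟨_, ⟨⟨_, hy⟩, (hy.commute_iff hF hx₀).2 hz⟩, rfl⟩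
        exact mul_mem (mul_mem (mul_mem (mul_mem (hm hx₀ hu.2) (hm hy₁ hru)) (hm hy₂ (hU 1))) (hm hy₃ (hU w)))
          (hm hy₄ (hU _))
      · rw [map_mul, map_mul, map_mul, map_mul, L.p_s _ _ hx₀, L.p_s _ _ hy₁, L.p_s _ _ hy₂, L.p_s _ _ hy₃,
          L.p_s _ _ hy₄]
        refine act_ext fun y => ?_
        rw [act_mul, act_mul, act_mul, act_mul, hy₄.2, hy₃.2, hy₂.2, hy₁.2, hx₀.2, act_one]
        simp only [add_left hF, add_right hF, smul_left hF, smul_right hF, hu.2, hr.2, hru, hur, mul_zero,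
          add_zero, one_smul, one_pow, one_mul]
        have := charTwo hF
        have e2 : (2 : F) = 0 := CharTwo.two_eq_zero
        match_scalars
        · ring
        · linear_combination (2 * hh y u) * e2 + hh y r * (w ^ 2 - w + 1) * hw
        · linear_combination (2 * hh y r) * e2 + hh y u * hw + hh y r * (w - 1) * (w ^ 3 + 2) * hw
    have h5 : ζ ^ 5 = 1 := by
      have e : (⟨s x₀, hmem hx₀ huW⟩ * ⟨s y₁, hmem hy₁ hrW⟩ * ⟨s y₂, hmem hy₂ (hW 1)⟩ * ⟨s y₃, hmem hy₃ (hW w)⟩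
          * ⟨s y₄, hmem hy₄ (hW _)⟩ : H) = 1 := Subtype.ext hprod
      have := congrArg τ e
      rw [map_mul, map_mul, map_mul, map_mul, map_one, hconst hx₀ huW, hconst hy₁ hrW, hconst hy₂ (hW 1),
        hconst hy₃ (hW w), hconst hy₄ (hW _)] at this
      rw [← this]
      simp [pow_succ]
    obtain ⟨a, ha⟩ := L.two ⟨((ζ : H) : E), (hZmem (ζ : H)).1 ζ.2⟩
    have h2 : ζ ^ (2 ^ a) = 1 := by
      refine Subtype.ext (Subtype.ext ?_)
      simpa using congrArg Subtype.val ha
    have hcop : Nat.gcd 5 (2 ^ a) = 1 := Nat.Coprime.pow_right a (by norm_num)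
    have := pow_gcd_eq_one.2 ⟨h5, h2⟩
    rwa [hcop, pow_one] at this
  -- conclusion
  have hall : ∀ y (hy : y ∈ H), τ ⟨y, hy⟩ = 1 := by
    intro y hy
    refine Subgroup.closure_induction (p := fun y hy => τ ⟨y, hy⟩ = 1) ?_ (map_one τ) ?_ ?_ hy
    · rintro _ ⟨x, ⟨z, hx, hz⟩, rfl⟩
      rw [hconst hx hz, hζ1]
    · intro a b ha hb h h'
      rw [show (⟨a * b, mul_mem ha hb⟩ : H) = ⟨a, ha⟩ * ⟨b, hb⟩ from rfl, map_mul, h, h', mul_one]
    · intro a ha h
      rw [show (⟨a⁻¹, inv_mem ha⟩ : H) = ⟨a, ha⟩⁻¹ from rfl, map_inv, h, inv_one]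
  intro z hz hz1
  have hzZ : (⟨z, hz⟩ : H) ∈ Z := (hZmem _).2 hz1
  have h1 : z ^ A.index = 1 := by
    have := hτZ _ hzZ
    rw [hall z hz] at this
    simpa using congrArg Subtype.val this.symm
  obtain ⟨a, ha⟩ := L.two ⟨z, hz1⟩
  have h2 : z ^ (2 ^ a) = 1 := by simpa using congrArg Subtype.val ha
  have hcop : Nat.gcd A.index (2 ^ a) = 1 :=
    Nat.Coprime.pow_right a (Nat.Coprime.symm (Nat.prime_two.coprime_iff_not_dvd.2 hodd))
  have := pow_gcd_eq_one.2 ⟨h1, h2⟩
  rwa [hcop, pow_one] at this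

end CfsgLib.SURadical
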