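import Cfsg.Agent.Lib.KnownSimple.PSUAut.Groups
import Cfsg.Agent.Lib.Known.UnitaryInvolution

/-!
# Transvection points of `SUₙ(2)`

The isotropic points of `Fⁿ`, `#F = 4`, as elements of `SUₙ(2)`; the transvections are the only class of
3-transpositions.
-/

set_option autoImplicit false

namespace CfsgLib.SURadical

open Matrix Cfsg
open CfsgLib.PSUAut
open CfsgLib.UnitarySpec (sigma_sigma sigma_ne)

variable {F : Type} [Field F] [Fintype F] {n : ℕ}

local notation "Vn" => Fin n → F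
local notation "hh" => Cfsg.hermForm n F 2
local notation "SUn" => (Cfsg.SU n F 2)

/-- `x` is the transvection with centre the point of `v`. -/
def IsPt (x : SUn) (v : Vn) : Prop :=
  Isot 2 v ∧ ∀ y, act x y = y + hh y v • v

variable (hF : Fintype.card F = 2 ^ 2)
include hF

theorem charTwo : CharP F 2 := by
  obtain ⟨p, hp⟩ := CharP.exists F
  obtain ⟨k, hk, hk'⟩ := FiniteField.card F p
  rw [hF] at hk'
  have h2 : p = 2 := (Nat.prime_dvd_prime_iff_eq hk Nat.prime_two).1
    (hk.dvd_of_dvd_pow (n := 2) (hk' ▸ dvd_pow_self p (PNat.ne_zero k)))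
  exact h2 ▸ hp

theorem add_self (x : F) : x + x = 0 := by
  have := charTwo hF
  exact CharTwo.add_self_eq_zero x

theorem vadd_self (x : Vn) : x + x = 0 := funext fun i => add_self hF (x i)

theorem cube_eq_one {x : F} (hx : x ≠ 0) : x ^ 3 = 1 := by
  have := FiniteField.pow_card_sub_one_eq_one x hx
  rwa [hF] at this

theorem exists_sigma : ∃ σ : F ≃+* F, ∀ a, σ a = a ^ 2 := by
  obtain ⟨σ, hσ, -, -⟩ := CfsgLib.Transvec.Unitary.exists_frob hF
  exact ⟨σ, hσ⟩

theorem smul_left (a : F) (u w : Vn) : hh (a • u) w = a * hh u w :=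
  let ⟨_, hσ⟩ := exists_sigma hF; hsmul_left hF hσ a u w

theorem smul_right (a : F) (w u : Vn) : hh w (a • u) = a ^ 2 * hh w u := by
  obtain ⟨σ, hσ⟩ := exists_sigma hF
  rw [hsmul_right hF hσ, hσ]

theorem add_left (u v w : Vn) : hh (u + v) w = hh u w + hh v w :=
  let ⟨_, hσ⟩ := exists_sigma hF; hadd_left hF hσ u v w

theorem add_right (w u v : Vn) : hh w (u + v) = hh w u + hh w v :=
  let ⟨_, hσ⟩ := exists_sigma hF; hadd_right hF hσ w u v

theorem zero_left (w : Vn) : hh 0 w = 0 :=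
  let ⟨_, hσ⟩ := exists_sigma hF; hzero_left hF hσ w

theorem zero_right (w : Vn) : hh w 0 = 0 :=
  let ⟨_, hσ⟩ := exists_sigma hF; hzero_right hF hσ w

theorem comm_zero {u v : Vn} : hh u v = 0 ↔ hh v u = 0 :=
  let ⟨_, hσ⟩ := exists_sigma hF; hcomm hF hσ u v

theorem conj_form (u v : Vn) : hh v u = (hh u v) ^ 2 :=
  (CfsgLib.Classical.hermForm_conj hF u v).symm

theorem comm_one {u v : Vn} (h : hh u v = 1) : hh v u = 1 := by rw [conj_form hF, h, one_pow]

theorem smul_pt (a : F) (ha : a ≠ 0) (y w : Vn) : hh y (a • w) • (a • w) = hh y w • w := by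
  rw [smul_right hF, smul_smul]
  congr 1
  linear_combination hh y w * cube_eq_one hF ha

theorem smul_norm {c : F} (hc : c ≠ 0) (v : Vn) : hh (c • v) (c • v) = hh v v := by
  rw [smul_left hF, smul_right hF]
  linear_combination hh v v * cube_eq_one hF hc

theorem sum_left {ι : Type*} (s : Finset ι) (f : ι → Vn) (w : Vn) :
    hh (∑ i ∈ s, f i) w = ∑ i ∈ s, hh (f i) w := by
  classical
  induction s using Finset.induction_on with
  | empty => simp [zero_left hF]
  | insert a s ha ih => rw [Finset.sum_insert ha, Finset.sum_insert ha, add_left hF, ih]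

theorem norm_zero_or_one (z : Vn) : hh z z = 0 ∨ hh z z = 1 := by
  have h2 := conj_form hF z z
  have : hh z z * (hh z z - 1) = 0 := by linear_combination -h2
  rcases mul_eq_zero.1 this with h | h
  · exact Or.inl h
  · exact Or.inr (sub_eq_zero.1 h)

theorem exists_pt {v : Vn} (hv : Isot 2 v) : ∃ x : SUn, IsPt x v := by
  obtain ⟨σ, hσ⟩ := exists_sigma hF
  obtain ⟨t, ht⟩ := exists_tSU hF hσ hv (c := 1) (by rw [map_one]; exact add_self hF 1)
  exact ⟨t, hv, fun y => by rw [ht, one_mul]⟩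

theorem IsPt.unique {x y : SUn} {v : Vn} (hx : IsPt x v) (hy : IsPt y v) : x = y :=
  act_ext fun z => by rw [hx.2, hy.2]

omit hF in
theorem IsPt.act_self {x : SUn} {v : Vn} (hx : IsPt x v) : act x v = v := by
  rw [hx.2, hx.1.2, zero_smul, add_zero]

omit hF in
theorem IsPt.act_of_perp {x : SUn} {v y : Vn} (hx : IsPt x v) (h : hh y v = 0) : act x y = y := by
  rw [hx.2, h, zero_smul, add_zero]

theorem IsPt.smul {x : SUn} {v : Vn} (hx : IsPt x v) {a : F} (ha : a ≠ 0) : IsPt x (a • v) :=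
  ⟨⟨smul_ne_zero ha hx.1.1, by rw [smul_norm hF ha, hx.1.2]⟩, fun y => by rw [smul_pt hF a ha, hx.2]⟩

theorem IsPt.mul_self {x : SUn} {v : Vn} (hx : IsPt x v) : x * x = 1 :=
  act_ext fun y => by
    rw [act_mul, act_one, hx.2, hx.2, add_left hF, smul_left hF, hx.1.2, mul_zero, add_zero, add_assoc,
      vadd_self hF, add_zero]

theorem IsPt.span_eq {x : SUn} {u v : Vn} (hu : IsPt x u) (hv : IsPt x v) :
    ∃ a : F, a ≠ 0 ∧ v = a • u := by
  obtain ⟨σ, hσ⟩ := exists_sigma hF
  obtain ⟨y, hy⟩ := exists_partner hF hσ hv.1.1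
  have h2 := hu.2 y
  rw [hv.2, hy, one_smul, add_right_inj] at h2
  exact ⟨hh y u, fun h => hv.1.1 (by rw [h2, h, zero_smul]), h2⟩

theorem IsPt.ne_one {x : SUn} {v : Vn} (hx : IsPt x v) : x ≠ 1 := by
  obtain ⟨σ, hσ⟩ := exists_sigma hF
  obtain ⟨y, hy⟩ := exists_partner hF hσ hx.1.1
  intro h1
  have h2 := hx.2 y
  rw [h1, act_one, hy, one_smul, eq_comm, add_eq_left] at h2
  exact hx.1.1 h2

theorem IsPt.commute_iff {x y : SUn} {u v : Vn} (hx : IsPt x u) (hy : IsPt y v) :
    Commute x y ↔ hh u v = 0 := by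
  obtain ⟨σ, hσ⟩ := exists_sigma hF
  refine ⟨fun hc => ?_, fun huv => act_ext fun z => ?_⟩
  · by_contra huv
    obtain ⟨z, hz⟩ := exists_partner hF hσ hy.1.1
    have h1 : act (x * y) z = act (y * x) z := by rw [hc.eq]
    rw [act_mul, act_mul, hx.2, hy.2, hx.2, hy.2] at h1
    simp only [hz, one_smul, add_left hF, smul_left hF, hx.1.2, hy.1.2, mul_zero, add_zero, add_smul] at h1
    have h2 : hh v u • u = (hh z u * hh u v) • v := by linear_combination (norm := module) h1
    have h3 := congrArg (fun w => hh w v) h2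
    simp only [smul_left hF, hy.1.2, mul_zero, mul_eq_zero] at h3
    rcases h3 with h3 | h3
    · exact huv ((comm_zero hF).1 h3)
    · exact huv h3
  · rw [act_mul, act_mul, hx.2, hy.2, hy.2, hx.2]
    simp only [add_left hF, smul_left hF, (comm_zero hF).1 huv, huv, mul_zero, add_zero]
    abel

omit hF in
theorem IsPt.conj {x : SUn} {v : Vn} (hx : IsPt x v) (g : SUn) : IsPt (g * x * g⁻¹) (act g v) := by
  refine ⟨hx.1.act g, fun y => ?_⟩
  have h1 : hh (act g⁻¹ y) v = hh y (act g v) := by rw [← act_form g, act_apply_inv]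
  rw [act_mul, act_mul, hx.2, act_add, act_smul, act_apply_inv, h1]

theorem IsPt.inv_eq {x : SUn} {v : Vn} (hx : IsPt x v) : x⁻¹ = x :=
  inv_eq_of_mul_eq_one_right (hx.mul_self hF)

/-- Conjugate of a point by a point. -/
theorem IsPt.cj {x y : SUn} {u v : Vn} (hx : IsPt x u) (hy : IsPt y v) :
    IsPt (x * y * x) (v + hh v u • u) := by
  have := hy.conj x
  rwa [hx.inv_eq hF, hx.2] at this

/-- A point swapping two isotropic points which are not orthogonal; its centre is a combination. -/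
theorem exists_swap {u v : Vn} (hu : Isot 2 u) (hv : Isot 2 v) (huv : hh u v ≠ 0) :
    ∃ (g : SUn) (a : F), a ≠ 0 ∧ IsPt g (u + a • v) ∧ act g u = a • v := by
  obtain ⟨a, ha, ha1⟩ : ∃ a : F, a ≠ 0 ∧ hh u (a • v) = 1 := by
    refine ⟨hh u v, huv, ?_⟩
    rw [smul_right hF, ← pow_succ]
    exact cube_eq_one hF huv
  have hvv : hh (a • v) (a • v) = 0 := by rw [smul_norm hF ha, hv.2]
  have hw : hh (u + a • v) (u + a • v) = 0 := by
    rw [add_left hF, add_right hF, add_right hF, hu.2, hvv, ha1, comm_one hF ha1, zero_add, add_zero]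
    exact add_self hF 1
  have hw0 : u + a • v ≠ 0 := fun h => by
    have := congrArg (fun z => hh z (a • v)) h
    simp only [add_left hF, ha1, hvv, add_zero, zero_left hF] at this
    exact one_ne_zero this
  obtain ⟨t, ht⟩ := exists_pt hF (v := u + a • v) ⟨hw0, hw⟩
  refine ⟨t, a, ha, ht, ?_⟩
  rw [ht.2, add_right hF, hu.2, ha1, zero_add, one_smul, ← add_assoc, vadd_self hF, zero_add]

/-- A conjugation-invariant set of involutions of `SUₙ(2)` in which products have order at most three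
consists of points. -/
theorem exists_isPt_of_class {C : Set SUn} (hsq : ∀ x ∈ C, x * x = 1) (hne : ∀ x ∈ C, x ≠ 1)
    (hcl : ∀ g : SUn, ∀ x ∈ C, g * x * g⁻¹ ∈ C)
    (hpair : ∀ x ∈ C, ∀ y ∈ C, Commute x y ∨ (x * y) ^ 3 = 1) {T : SUn} (hT : T ∈ C) :
    ∃ v, IsPt T v := by
  obtain ⟨σ, hσ⟩ := exists_sigma hF
  have hTT := hsq T hT
  let M : Matrix (Fin n) (Fin n) F := T.1
  let N : Vn →ₗ[F] Vn := (M - 1).mulVecLin
  have hNy : ∀ y, N y = act T y + y := by
    intro y
    show (M - 1) *ᵥ y = _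
    rw [sub_mulVec, one_mulVec, sub_eq_iff_eq_add, add_assoc, vadd_self hF, add_zero]
    rfl
  have hTy : ∀ y, act T y = y + N y := fun y => by
    rw [hNy, ← add_assoc, add_comm y (act T y), add_assoc, vadd_self hF, add_zero]
  have hTT' : ∀ y, act T (act T y) = y := fun y => by rw [← act_mul, hTT, act_one]
  have hN : ∀ y, N (N y) = 0 := fun y => by
    rw [hNy, hNy, act_add, hTT', add_comm y (act T y)]
    exact vadd_self hF _
  have hadj : ∀ u v, hh v (N u) = hh (N v) u := by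
    intro u v
    rw [hNy, hNy, add_right hF, add_left hF]
    congr 1
    rw [← act_form T, hTT']
  obtain ⟨k, f, -, hfl, hff, hNf, hfe⟩ := CfsgLib.Known.UnitaryInvolution.exists_frame hF N hN hadj
  match k, f, hfl, hff, hNf, hfe with
  | 0, f, _, _, hNf, _ =>
    exact absurd (act_ext fun y => by rw [hTy, hNf, act_one]; simp) (hne T hT)
  | 1, f, hfl, hff, hNf, _ =>
    exact ⟨f 0, ⟨hfl.ne_zero 0, hff 0 0⟩, fun y => by rw [hTy, hNf, Fin.sum_univ_one]⟩
  | k + 2, f, hfl, hff, hNf, hfe =>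
    exfalso
    obtain ⟨e₁, he₁, he₁f, hNe₁⟩ := hfe 0
    obtain ⟨e, he, hef, hNe⟩ := hfe 1
    have hcoef : ∀ (i j : Fin (k + 2)) (y : Vn), N y = f i → hh y (f j) = if j = i then 1 else 0 := by
      intro i j y hy
      have h0 : ∑ l, (hh y (f l) - if l = i then 1 else 0) • f l = 0 := by
        simp only [sub_smul, Finset.sum_sub_distrib, ite_smul, one_smul, zero_smul,
          Finset.sum_ite_eq', Finset.mem_univ, if_true]
        rw [← hNf, hy, sub_self]
      exact sub_eq_zero.1 (Fintype.linearIndependent_iff.1 hfl _ h0 j)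
    set u₁ := f 0 with hu₁
    set u₂ := f 1 with hu₂
    have he₁u₂ : hh e₁ u₂ = 0 := by
      rw [hcoef 0 1 e₁ hNe₁, if_neg]
      simp [Fin.ext_iff]
    have heu₁ : hh e u₁ = 0 := by
      rw [hcoef 1 0 e hNe, if_neg]
      simp [Fin.ext_iff]
    -- a second dual vector orthogonal to the first
    set c := hh e e₁ with hc
    set e₂ := e + c • u₁ with he₂
    have huu : hh u₁ u₁ = 0 := hff 0 0
    have hu12 : hh u₁ u₂ = 0 := hff 0 1
    have hu21 : hh u₂ u₁ = 0 := hff 1 0
    have hu22 : hh u₂ u₂ = 0 := hff 1 1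
    have hue₁ : hh u₁ e₁ = 1 := comm_one hF he₁f
    have he₂e₁ : hh e₂ e₁ = 0 := by
      rw [he₂, add_left hF, smul_left hF, hue₁, mul_one, ← hc]
      exact add_self hF c
    have he₁e₂ : hh e₁ e₂ = 0 := (comm_zero hF).1 he₂e₁
    have he₂e₂ : hh e₂ e₂ = 0 := by
      simp only [he₂, add_left hF, add_right hF, smul_left hF, smul_right hF, he, heu₁,
        (comm_zero hF).1 heu₁, huu, mul_zero, add_zero]
    have he₂u₁ : hh e₂ u₁ = 0 := by rw [he₂, add_left hF, smul_left hF, heu₁, huu, mul_zero, add_zero]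
    have he₂u₂ : hh e₂ u₂ = 1 := by rw [he₂, add_left hF, smul_left hF, hef, hu12, mul_zero, add_zero]
    have hu₁e₂ : hh u₁ e₂ = 0 := (comm_zero hF).1 he₂u₁
    have hu₂e₂ : hh u₂ e₂ = 1 := comm_one hF he₂u₂
    have hu₂e₁ : hh u₂ e₁ = 0 := (comm_zero hF).1 he₁u₂
    have hu0 : ∀ i, N (f i) = 0 := fun i => by
      obtain ⟨z, -, -, hz⟩ := hfe i
      rw [← hz, hN]
    have hNe₂ : N e₂ = u₂ := by rw [he₂, map_add, map_smul, hNe, hu₁, hu0, smul_zero, add_zero]
    -- the transvections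
    have hiso : ∀ w w' : Vn, hh w w = 0 → hh w' w' = 0 → hh w w' + hh w' w = 0 → hh (w + w') (w + w') = 0 := by
      intro w w' h1 h2 h3
      rw [add_left hF, add_right hF, add_right hF, h1, h2, zero_add, add_zero, h3]
    have mk : ∀ w z : Vn, hh w w = 0 → hh z w = 1 →
        ∃ t : SUn, ∀ y, act t y = y + hh y w • w := by
      intro w z hw hzw
      obtain ⟨t, hv, ht⟩ := exists_pt hF (v := w) ⟨fun h0 => by
        rw [h0, zero_right hF] at hzw; exact zero_ne_one hzw, hw⟩
      exact ⟨t, ht⟩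
    obtain ⟨a₁, ha₁⟩ := mk (u₁ + e₁) u₁ (hiso _ _ huu he₁ (by rw [hue₁, he₁f]; exact add_self hF 1))
      (by rw [add_right hF, huu, hue₁, zero_add])
    obtain ⟨a₂, ha₂⟩ := mk (u₂ + e₂) u₂ (hiso _ _ hu22 he₂e₂ (by rw [hu₂e₂, he₂u₂]; exact add_self hF 1))
      (by rw [add_right hF, hu22, hu₂e₂, zero_add])
    obtain ⟨s₁, hs₁⟩ := mk u₁ e₁ huu he₁f
    obtain ⟨s₂, hs₂⟩ := mk (u₁ + e₂) e₁ (hiso _ _ huu he₂e₂ (by rw [hu₁e₂, he₂u₁, add_zero]))
      (by rw [add_right hF, he₁f, he₁e₂, add_zero])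
    have v2 : ∀ (w w' : Vn), w + (w + w') = w' := fun w w' => by rw [← add_assoc, vadd_self hF, zero_add]
    set g := s₂ * s₁ * a₁ * a₂ with hg
    have g1 : act g u₁ = e₁ + e₂ := by
      simp only [hg, act_mul]
      rw [ha₂, add_right hF, hu12, hu₁e₂, add_zero, zero_smul, add_zero, ha₁, add_right hF, huu, hue₁,
        zero_add, one_smul, v2, hs₁, he₁f, one_smul, hs₂]
      simp only [add_left hF, add_right hF, he₁f, he₁e₂, huu, hu₁e₂, add_zero, one_smul]
      rw [add_assoc, v2]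
    have g2 : act g u₂ = e₂ := by
      simp only [hg, act_mul]
      rw [ha₂, add_right hF, hu22, hu₂e₂, zero_add, one_smul, v2, ha₁, add_right hF, he₂u₁, he₂e₁,
        add_zero, zero_smul, add_zero, hs₁, he₂u₁, zero_smul, add_zero, hs₂]
      simp only [add_right hF, he₂u₁, he₂e₂, add_zero, zero_smul]
    have g3 : act g e₁ = u₁ := by
      simp only [hg, act_mul]
      rw [ha₂, add_right hF, he₁u₂, he₁e₂, add_zero, zero_smul, add_zero, ha₁, add_right hF, he₁f, he₁,
        add_zero, one_smul, add_comm u₁ e₁, v2, hs₁, huu, zero_smul, add_zero, hs₂]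
      simp only [add_right hF, huu, hu₁e₂, add_zero, zero_smul]
    have g4 : act g e₂ = u₂ + (u₁ + e₂) := by
      simp only [hg, act_mul]
      rw [ha₂, add_right hF, he₂u₂, he₂e₂, add_zero, one_smul, add_comm u₂ e₂, v2, ha₁, add_right hF,
        hu21, hu₂e₁, add_zero, zero_smul, add_zero, hs₁, hu21, zero_smul, add_zero, hs₂]
      simp only [add_right hF, hu21, hu₂e₂, zero_add, one_smul]
    -- the conjugate
    set T' := g * T * g⁻¹ with hT'
    have hT'g : ∀ y, act T' (act g y) = act g y + act g (N y) := fun y => by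
      rw [hT', act_mul, act_mul, act_inv_apply, hTy, act_add]
    have t1 : act T' e₂ = e₂ := by
      rw [← g2, hT'g, hu₂, hu0, act_zero, add_zero]
    have t2 : act T' e₁ = e₁ := by
      have h := hT'g u₁
      rw [g1, act_add, t1, hu₁, hu0, act_zero, add_zero] at h
      exact add_right_cancel h
    have := charTwo hF
    have two : ∀ (z : Vn), (2 : F) • z = 0 := fun z => by rw [CharTwo.two_eq_zero, zero_smul]
    have t3 : act T' u₁ = u₁ + (e₁ + e₂) := by
      rw [← g3, hT'g, hNe₁, g1]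
    have t4 : act T' u₂ = u₂ + e₁ := by
      have h := hT'g e₂
      rw [g4, act_add, act_add, t1, t3, hNe₂, g2] at h
      linear_combination (norm := module) h - two e₁
    have T1 : act T u₁ = u₁ := by rw [hTy, hu₁, hu0, add_zero]
    have T2 : act T u₂ = u₂ := by rw [hTy, hu₂, hu0, add_zero]
    have T3 : act T e₁ = e₁ + u₁ := by rw [hTy, hNe₁]
    have T4 : act T e₂ = e₂ + u₂ := by rw [hTy, hNe₂]
    set P := T * T' with hP
    have P1 : act P e₁ = e₁ + u₁ := by rw [hP, act_mul, t2, T3]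
    have P2 : act P e₂ = e₂ + u₂ := by rw [hP, act_mul, t1, T4]
    have P3 : act P u₁ = u₂ + e₁ + e₂ := by
      rw [hP, act_mul, t3, act_add, act_add, T1, T3, T4]
      linear_combination (norm := module) two u₁
    have P4 : act P u₂ = u₂ + e₁ + u₁ := by rw [hP, act_mul, t4, act_add, T2, T3, add_assoc]
    have Q2 : act (P * P) e₁ = u₁ + u₂ + e₂ := by
      rw [act_mul, P1, act_add, P1, P3]
      linear_combination (norm := module) two e₁
    have Q3 : act (P * (P * P)) e₁ = u₁ + u₂ := by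
      rw [act_mul, Q2, act_add, act_add, P2, P3, P4]
      linear_combination (norm := module) two e₁ + two e₂ + two u₂
    have hy := hcl g T hT
    have fin : ∀ (Z : SUn) (w : Vn), Z = 1 → act Z e₁ = w → hh w e₂ = 1 → False := by
      intro Z w hZ hw hw'
      rw [hZ, act_one] at hw
      rw [← hw, he₁e₂] at hw'
      exact zero_ne_one hw'
    rcases hpair T hT _ hy with hc | hc
    · refine fin (P * P) _ ?_ Q2 ?_
      · have hc' : Commute T T' := hc
        rw [hP, show T * T' * (T * T') = T' * (T * T) * T' by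
          conv_lhs => arg 1; rw [hc'.eq]
          simp only [mul_assoc], hTT, mul_one]
        exact hsq _ hy
      · rw [add_left hF, add_left hF, hu₁e₂, hu₂e₂, he₂e₂, zero_add, add_zero]
    · refine fin (P * (P * P)) _ ?_ Q3 ?_
      · rw [← hc, hP, hT', pow_succ', pow_two]
      · rw [add_left hF, hu₁e₂, hu₂e₂, zero_add]

theorem exists_omega : ∃ w : F, w ≠ 0 ∧ w ≠ 1 ∧ w ^ 2 + w + 1 = 0 ∧ ∀ x : F, x = 0 ∨ x = 1 ∨ x = w ∨ x = w ^ 2 := by
  classical
  obtain ⟨w, hw⟩ : ∃ w : F, w ∉ ({0, 1} : Finset F) := by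
    by_contra h
    push Not at h
    have := (Finset.card_le_card (s := Finset.univ) fun x _ => h x).trans Finset.card_le_two
    rw [Finset.card_univ, hF] at this
    omega
  simp only [Finset.mem_insert, Finset.mem_singleton, not_or] at hw
  obtain ⟨h0, h1⟩ := hw
  have hsq : w ^ 2 + w + 1 = 0 := by
    have : (w - 1) * (w ^ 2 + w + 1) = 0 := by linear_combination cube_eq_one hF h0
    exact (mul_eq_zero.1 this).resolve_left (sub_ne_zero.2 h1)
  refine ⟨w, h0, h1, hsq, fun x => ?_⟩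
  by_contra h
  push Not at h
  obtain ⟨hx0, hx1, hxw, hxw2⟩ := h
  have : (x - w) * (x - w ^ 2) * (x - 1) = 0 := by
    linear_combination cube_eq_one hF hx0 - cube_eq_one hF h0 + (x - x ^ 2 + w ^ 3 - w ^ 3) * 0
      + (-(x * x) + x * w) * hsq + (x - x) * hsq
  simp [sub_eq_zero, hxw, hxw2, hx1] at this

theorem exists_omega' : ∃ w : F, w ≠ 0 ∧ w ^ 2 + w + 1 = 0 :=
  let ⟨w, h0, _, h2, _⟩ := exists_omega hF; ⟨w, h0, h2⟩

end CfsgLib.SURadical
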