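import Cfsg.Agent.Lib.ThreeTransp.SURadical.Abelian

/-!
# A complement of the 2-radical over `SU₅(2)`

The diagonal torus of `SU₅(2)` lifts to an abelian 3-group, whose elements fix exactly one lift of every
point with the corresponding zero coordinate. These lifts are permuted by conjugation, so they generate
a complement.
-/

set_option autoImplicit false

namespace CfsgLib.SURadical

open Cfsg
open CfsgLib.PSUAut
open CfsgLib.ThreeTransp (IsTT)

variable {F : Type} [Field F] [Fintype F]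

local notation "V5" => Fin 5 → F
local notation "h5" => Cfsg.hermForm 5 F 2
local notation "SU5" => (Cfsg.SU 5 F 2)

omit [Fintype F] in
theorem form_single_right (y : V5) (i : Fin 5) : h5 y (Pi.single i 1) = y i := by
  rw [Cfsg.hermForm, Finset.sum_eq_single i (fun k _ hk => by simp [hk])
    (fun h => absurd (Finset.mem_univ i) h)]
  simp

/-- The diagonal element with eigenvalue `w²` on `e` and `w` on its orthogonal. -/
def IsZ (w : F) (z : SU5) (e : V5) : Prop := ∀ y, act z y = w • y + h5 y e • e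

omit [Fintype F] in
theorem IsZ.unique {w : F} {z z' : SU5} {e : V5} (h : IsZ w z e) (h' : IsZ w z' e) : z = z' :=
  act_ext fun y => by rw [h, h']

omit [Fintype F] in
theorem IsZ.conj {w : F} {z : SU5} {e : V5} (h : IsZ w z e) (g : SU5) :
    IsZ w (g * z * g⁻¹) (act g e) := fun y => by
  have h1 : h5 (act g⁻¹ y) e = h5 y (act g e) := by rw [← act_form g, act_apply_inv]
  rw [act_mul, act_mul, h, act_add, act_smul, act_smul, act_apply_inv, h1]

omit [Fintype F] in
theorem zero_exists_three : ∀ i j : Fin 5, i ≠ j → ∃ a b c : Fin 5,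
    (i ≠ a ∧ i ≠ b ∧ i ≠ c) ∧ (j ≠ a ∧ j ≠ b ∧ j ≠ c) ∧ (a ≠ b ∧ a ≠ c ∧ b ≠ c) ∧
      ∀ k, k = i ∨ k = j ∨ k = a ∨ k = b ∨ k = c := by
  decide

/-- A vector supported by two coordinates. -/
def Wt2 (u : V5) : Prop := ∃ i j, i ≠ j ∧ u i ≠ 0 ∧ u j ≠ 0 ∧ ∀ k, k ≠ i → k ≠ j → u k = 0

variable (hF : Fintype.card F = 2 ^ 2)
include hF

theorem IsZ.smul {w : F} {z : SU5} {e : V5} (h : IsZ w z e) {c : F} (hc : c ≠ 0) : IsZ w z (c • e) :=
  fun y => by rw [h, smul_pt hF c hc]

theorem sum_form (u : V5) : ∑ k, u k * u k ^ 2 = h5 u u := by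
  have _ := hF
  rfl

theorem exists_zero {u : V5} (hu : Isot 2 u) : ∃ i, u i = 0 := by
  by_contra hc
  push Not at hc
  have h := sum_form hF u
  rw [Finset.sum_congr rfl fun k _ => show u k * u k ^ 2 = 1 by
    rw [← pow_succ']; exact cube_eq_one hF (hc k), hu.2] at h
  have := charTwo hF
  simp only [Finset.sum_const, Finset.card_univ, Fintype.card_fin, nsmul_eq_mul, mul_one] at h
  rw [CharP.cast_eq_zero_iff F 2] at h
  omega

theorem wt2_of_two_zero {u : V5} (hu : Isot 2 u) {i j : Fin 5} (hij : i ≠ j) (hi : u i = 0) (hj : u j = 0) :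
    Wt2 u := by
  classical
  have := charTwo hF
  set S := Finset.univ.filter fun k => u k ≠ 0 with hS
  have h1 : (S.card : F) = 0 := by
    rw [← hu.2, ← sum_form hF u, Finset.card_eq_sum_ones, Nat.cast_sum, hS, Finset.sum_filter]
    refine Finset.sum_congr rfl fun k _ => ?_
    by_cases hk : u k = 0
    · simp [hk]
    · rw [if_pos hk, Nat.cast_one, ← pow_succ', cube_eq_one hF hk]
  rw [CharP.cast_eq_zero_iff F 2] at h1
  have hle : S.card ≤ 3 := by
    have : S ⊆ ({i, j} : Finset (Fin 5))ᶜ := by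
      intro k hk
      simp only [hS, Finset.mem_filter, Finset.mem_univ, true_and] at hk
      simp only [Finset.mem_compl, Finset.mem_insert, Finset.mem_singleton, not_or]
      exact ⟨fun e => hk (e ▸ hi), fun e => hk (e ▸ hj)⟩
    refine (Finset.card_le_card this).trans ?_
    rw [Finset.card_compl, Finset.card_pair hij, Fintype.card_fin]
  have hne : S.card ≠ 0 := by
    intro h0
    refine hu.1 (funext fun k => ?_)
    by_contra hk
    exact Finset.notMem_empty k (Finset.card_eq_zero.1 h0 ▸ Finset.mem_filter.2 ⟨Finset.mem_univ k, hk⟩)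
  obtain ⟨a, b, hab, hSab⟩ := Finset.card_eq_two.1 (show S.card = 2 by omega)
  have hmem : ∀ k, u k ≠ 0 ↔ k = a ∨ k = b := fun k => by
    have : k ∈ S ↔ k ∈ ({a, b} : Finset (Fin 5)) := by rw [hSab]
    simpa [hS] using this
  refine ⟨a, b, hab, (hmem a).2 (Or.inl rfl), (hmem b).2 (Or.inr rfl), fun k hka hkb => ?_⟩
  by_contra hk
  rcases (hmem k).1 hk with e | e
  · exact hka e
  · exact hkb e

theorem exists_isZ {w : F} (hw : w ^ 2 + w + 1 = 0) (i : Fin 5) :
    ∃ z : SU5, IsZ w z (Pi.single i 1) := by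
  classical
  have h3 : w ^ 3 = 1 := by linear_combination (w - 1) * hw
  set d : Fin 5 → F := fun k => w * if k = i then w else 1 with hd
  have hd3 : ∀ k, d k ^ 3 = 1 := by
    intro k
    simp only [hd]
    split_ifs <;> simp [mul_pow, h3]
  have hdet : (Matrix.diagonal d).det = 1 := by
    rw [Matrix.det_diagonal, hd, Finset.prod_mul_distrib, Finset.prod_ite_eq', if_pos (Finset.mem_univ i),
      Finset.prod_const, Finset.card_univ, Fintype.card_fin]
    linear_combination (w ^ 3 + 1) * h3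
  refine ⟨CfsgLib.Classical.suMk (Matrix.diagonal d) hdet fun u v => ?_, fun y => ?_⟩
  · refine Finset.sum_congr rfl fun k _ => ?_
    rw [Matrix.mulVec_diagonal, Matrix.mulVec_diagonal, mul_pow]
    linear_combination (u k * v k ^ 2) * hd3 k
  · funext k
    show (Matrix.diagonal d).mulVec y k = _
    rw [Matrix.mulVec_diagonal, form_single_right]
    simp only [hd, Pi.add_apply, Pi.smul_apply, smul_eq_mul]
    by_cases hk : k = i
    · subst hk
      rw [if_pos rfl, Pi.single_eq_same]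
      linear_combination y k * hw - add_self hF (y k * w) - add_self hF (y k)
    · rw [if_neg hk, Pi.single_eq_of_ne hk]
      ring

omit hF

variable {G : Type*} [Group G] [Finite G] {D : Set G} {pr : G →* (Cfsg.SU 5 F 2)}

namespace Setting

theorem ker_comm {n : ℕ} {π : G →* (Cfsg.SU n F 2)} (S : Setting D π) {v v' : G} (hv : π v = 1) (hv' : π v' = 1) :
    v * v' = v' * v := by
  haveI := S.ker_elementaryAbelian.1
  exact congrArg Subtype.val (mul_comm' (⟨v, hv⟩ : π.ker) ⟨v', hv'⟩)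

theorem ker_sq {n : ℕ} {π : G →* (Cfsg.SU n F 2)} (S : Setting D π) {v : G} (hv : π v = 1) : v * v = 1 := by
  rw [← pow_two]
  exact S.ker_elementaryAbelian.2 v hv

theorem conj_congr {n : ℕ} {π : G →* (Cfsg.SU n F 2)} (S : Setting D π) {g g' v : G} (h : π g = π g')
    (hv : π v = 1) : g * v * g⁻¹ = g' * v * g'⁻¹ := by
  have h1 : π (g'⁻¹ * g) = 1 := by rw [map_mul, map_inv, h, inv_mul_cancel]
  calc g * v * g⁻¹ = g' * ((g'⁻¹ * g) * v) * g⁻¹ := by group
    _ = g' * (v * (g'⁻¹ * g)) * g⁻¹ := by rw [S.ker_comm h1 hv]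
    _ = g' * v * g'⁻¹ := by group

/-- A product `v · v^d` is a product of two lifts. -/
theorem mul_conj_mem {n : ℕ} {π : G →* (Cfsg.SU n F 2)} (S : Setting D π) {a : (Cfsg.SU n F 2)} {d v : G}
    (hd : d ∈ D) (hda : π d = a) (hv : π v = 1) : v * (d * v * d) ∈ diffSet D π a := by
  refine ⟨v * d * v⁻¹, S.tt.conj v d hd, d, hd, by rw [map_mul, map_mul, map_inv, hv, hda]; simp, hda, ?_⟩
  rw [inv_eq_of_mul_eq_one_right (S.ker_sq hv)]
  group

end Setting

variable (S : Setting D pr)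
include S

/-- A kernel element commuting with the lifts near `a` and with one lift of a point not commuting with `a`
is trivial. -/
theorem eq_one_of_near {a : SU5} {u : V5} (ha : IsPt a u) {v : G}
    (hnear : ∀ y ∈ D, Commute (pr y) a → Commute v y) {e : G} (he : e ∈ D) (hea : ¬ Commute (pr e) a)
    (hve : Commute v e) : v = 1 := by
  obtain ⟨z, hz⟩ := S.pt e he
  obtain ⟨d, hd, hda⟩ := S.lift a u ha
  subst hda
  have hvd : Commute v d := hnear d hd (Commute.refl _)
  have hde : ¬ Commute d e := fun h => hea (h.map pr).symm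
  set f := d * e * d with hf
  have hfD : f ∈ D := S.tt.cj_mem hd he
  have hfd : f * d * f = e := S.tt.cj_conj_self hd he hde
  have hvf : Commute v f := (hvd.mul_right hve).mul_right hvd
  have hc : v ∈ Subgroup.center G := by
    rw [Subgroup.mem_center_iff]
    intro g
    have hg : g ∈ Subgroup.centralizer {v} := by
      refine (Subgroup.closure_le _).2 ?_
        ((S.near_generate ha hz fun h => hea h.symm).symm ▸ Subgroup.mem_top g)
      rintro y ⟨hy, hya | hye⟩
      · exact Subgroup.mem_centralizer_singleton_iff.2 (hnear y hy hya).eq.symm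
      · refine Subgroup.mem_centralizer_singleton_iff.2 (Commute.eq ?_)
        have h1 : f * y * f ∈ D := S.tt.cj_mem hfD hy
        have h2 : Commute (pr (f * y * f)) (pr d) := by
          have hff : pr f * pr f = 1 := by rw [← map_mul, S.tt.sq f hfD, map_one]
          have e1 : pr d = pr f * pr e * pr f := by
            have h5' : pr e = pr f * pr d * pr f := by
              rw [← map_mul pr f d, ← map_mul pr (f * d) f, hfd]
            rw [h5', show pr f * (pr f * pr d * pr f) * pr f =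
              (pr f * pr f) * pr d * (pr f * pr f) by group, hff, one_mul, mul_one]
          have e2 := hye.map (MulAut.conj (pr f)).toMonoidHom
          simpa [e1, inv_eq_of_mul_eq_one_right hff] using e2
        have h3 := (hnear _ h1 h2).symm
        have h4 := (hvf.symm.mul_left h3).mul_left hvf.symm
        rwa [show f * (f * y * f) * f = (f * f) * y * (f * f) by group, S.tt.sq f hfD, one_mul,
          mul_one] at h4
    exact Subgroup.mem_centralizer_singleton_iff.1 hg
  rwa [S.center, Subgroup.mem_bot] at hc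

theorem closure_diff_commute {a : SU5} {y : G} (hy : y ∈ D) (hya : Commute (pr y) a) {v : G}
    (hv : v ∈ Subgroup.closure (diffSet D pr a)) : Commute v y :=
  Subgroup.closure_induction (p := fun v _ => Commute v y) (fun _ hr => (S.diff_commute hy hya hr).symm)
    (Commute.one_left y) (fun _ _ _ _ h h' => h.mul_left h') (fun _ _ h => h.inv_left) hv

theorem closure_diff_map {a : SU5} {v : G} (hv : v ∈ Subgroup.closure (diffSet D pr a)) : pr v = 1 :=
  Subgroup.closure_induction (p := fun v _ => pr v = 1) (fun _ hr => S.diff_map hr) (map_one pr)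
    (fun _ _ _ _ h h' => by rw [map_mul, h, h', mul_one]) (fun _ _ h => by rw [map_inv, h, inv_one]) hv

/-- The identity `w = w^e · w^{ed}` for products of lifts of `a`. -/
theorem key_identity {a : SU5} {u : V5} (ha : IsPt a u) {d e w : G} (hd : d ∈ D) (hda : pr d = a)
    (he : e ∈ D) (hea : ¬ Commute (pr e) a) (hw : w ∈ Subgroup.closure (diffSet D pr a)) :
    w = (e * w * e) * (d * (e * w * e) * d) := by
  have hw1 := closure_diff_map S hw
  have hwd : Commute w d := closure_diff_commute S hd (by rw [hda]) hw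
  set w₁ := e * w * e with hw₁def
  have hw₁ : pr w₁ = 1 := by rw [hw₁def, map_mul, map_mul, hw1, mul_one, ← map_mul, S.tt.sq e he, map_one]
  have hw₂ : pr (d * w₁ * d) = 1 := by rw [map_mul, map_mul, hw₁, mul_one, ← map_mul, S.tt.sq d hd, map_one]
  have hEmem : w * (w₁ * (d * w₁ * d)) ∈ Subgroup.closure (diffSet D pr a) :=
    mul_mem hw (Subgroup.subset_closure (S.mul_conj_mem hd hda hw₁))
  have hde : ¬ Commute d e := fun h => hea (hda ▸ (h.map pr).symm)
  have hbr := S.tt.braid hd he hde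
  have he2 := S.tt.sq e he
  have hd2 := S.tt.sq d hd
  have f2 : d * w * d = w := by rw [← hwd.eq, mul_assoc, hd2, mul_one]
  have f3 : e * (d * w₁ * d) * e = d * w₁ * d := by
    calc e * (d * w₁ * d) * e = (e * d * e) * w * (e * d * e) := by rw [hw₁def]; group
      _ = (d * e * d) * w * (d * e * d) := by rw [hbr]
      _ = d * e * (d * w * d) * e * d := by group
      _ = d * w₁ * d := by rw [f2, hw₁def]; group
  have hfix : Commute (w * (w₁ * (d * w₁ * d))) e := by
    have h1 : e * (w * (w₁ * (d * w₁ * d))) * e = w * (w₁ * (d * w₁ * d)) := by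
      calc e * (w * (w₁ * (d * w₁ * d))) * e
          = (e * w * e) * ((e * w₁ * e) * (e * (d * w₁ * d) * e)) := by
            rw [show (e * w * e) * ((e * w₁ * e) * (e * (d * w₁ * d) * e)) =
              e * w * (e * e) * w₁ * (e * e) * (d * w₁ * d) * e by group, he2, mul_one, mul_one]
            group
        _ = w₁ * (w * (d * w₁ * d)) := by
            rw [f3, hw₁def, show e * (e * w * e) * e = (e * e) * w * (e * e) by group, he2, one_mul, mul_one]
        _ = w * (w₁ * (d * w₁ * d)) := by rw [← mul_assoc, S.ker_comm hw₁ hw1, mul_assoc]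
    show w * (w₁ * (d * w₁ * d)) * e = e * (w * (w₁ * (d * w₁ * d)))
    conv_lhs => rw [← h1]
    rw [mul_assoc, he2, mul_one]
  have hE := eq_one_of_near S ha (fun y hy hya => closure_diff_commute S hy hya hEmem) he hea hfix
  have hm : pr (w₁ * (d * w₁ * d)) = 1 := by rw [map_mul, hw₁, hw₂, one_mul]
  exact mul_right_cancel (hE.trans (S.ker_sq hm).symm)

theorem exists_noncommuting {a : SU5} {u : V5} (ha : IsPt a u) : ∃ e ∈ D, ¬ Commute (pr e) a := by
  obtain ⟨v, hv, -, hvu⟩ := exists_isoPartner S.field (Ortho.nil (n := 5) Fin.elim0) ha.1 fun i => i.elim0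
  obtain ⟨x, hx⟩ := exists_pt S.field hv
  obtain ⟨e, he, rfl⟩ := S.lift x v hx
  refine ⟨e, he, fun h => ?_⟩
  rw [(hx.commute_iff S.field ha).1 h] at hvu
  exact zero_ne_one hvu

/-- All lifts of a point are conjugate under the kernel. -/
theorem exists_ker_conj {a : SU5} {u : V5} (ha : IsPt a u) {d : G} (hd : d ∈ D) (hda : pr d = a) {w : G}
    (hw : w ∈ Subgroup.closure (diffSet D pr a)) : ∃ v, pr v = 1 ∧ d * w = v * d * v := by
  obtain ⟨e, he, hea⟩ := exists_noncommuting S ha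
  have hk := key_identity S ha hd hda he hea hw
  have hv : pr (e * w * e) = 1 := by
    rw [map_mul, map_mul, closure_diff_map S hw, mul_one, ← map_mul, S.tt.sq e he, map_one]
  refine ⟨e * w * e, hv, ?_⟩
  set v := e * w * e
  rw [hk]
  have h2 : pr (d * v * d) = 1 := by rw [map_mul, map_mul, hv, mul_one, ← map_mul, S.tt.sq d hd, map_one]
  rw [S.ker_comm hv h2, show d * (d * v * d * v) = (d * d) * v * d * v by group, S.tt.sq d hd, one_mul]

/-- An element acting as a scalar `w` on a 3-space containing `u` fixes no product of lifts of the point. -/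
theorem fpf {w : F} (hw : w ^ 2 + w + 1 = 0) {f₁ f₂ f₃ : V5} (h11 : h5 f₁ f₁ = 1) (h22 : h5 f₂ f₂ = 1)
    (h33 : h5 f₃ f₃ = 1) (h12 : h5 f₁ f₂ = 0) (h13 : h5 f₁ f₃ = 0) (h23 : h5 f₂ f₃ = 0)
    {a : SU5} (ha : IsPt a (f₁ + f₂)) {η : G}
    (hη : ∀ y, act (pr η) y = y + (w * w) • (h5 y f₁ • f₁ + h5 y f₂ • f₂ + h5 y f₃ • f₃))
    {x : G} (hx : x ∈ Subgroup.closure (diffSet D pr a)) (hfix : η * x * η⁻¹ = x) : x = 1 := by
  have hF := S.field
  have := charTwo hF
  have e2 : (2 : F) = 0 := CharTwo.two_eq_zero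
  have h21 := (comm_zero hF).1 h12
  have h31 := (comm_zero hF).1 h13
  have h32 := (comm_zero hF).1 h23
  have hw0 : w ≠ 0 := fun h => by rw [h] at hw; simp at hw
  have h3 : w ^ 3 = 1 := by linear_combination (w - 1) * hw
  obtain ⟨a', ha'⟩ := exists_pt hF (v := f₁ + w • f₂)
    (add_isot hF h11 (by rw [smul_norm hF hw0, h22]) (by rw [smul_right hF, h12, mul_zero]))
  obtain ⟨c₀, hc₀⟩ := exists_pt hF (add_isot hF h22 h33 h23)
  obtain ⟨c₁, hc₁⟩ := exists_pt hF (v := f₂ + w • f₃)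
    (add_isot hF h22 (by rw [smul_norm hF hw0, h33]) (by rw [smul_right hF, h23, mul_zero]))
  obtain ⟨c₂, hc₂⟩ := exists_pt hF (v := f₂ + (w * w) • f₃)
    (add_isot hF h22 (by rw [smul_norm hF (mul_ne_zero hw0 hw0), h33]) (by rw [smul_right hF, h23, mul_zero]))
  obtain ⟨d, hd, rfl⟩ := S.lift a _ ha
  obtain ⟨d', hd', rfl⟩ := S.lift a' _ ha'
  obtain ⟨g₀, hg₀, rfl⟩ := S.lift c₀ _ hc₀
  obtain ⟨g₁, hg₁, rfl⟩ := S.lift c₁ _ hc₁
  obtain ⟨g₂, hg₂, rfl⟩ := S.lift c₂ _ hc₂
  have e1 : pr g₀ * pr g₁ * pr η = pr d * pr d' := by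
    refine act_ext fun y => ?_
    rw [act_mul, act_mul, act_mul, hη, hc₁.2, hc₀.2, ha'.2, ha.2]
    simp only [add_left hF, add_right hF, smul_left hF, smul_right hF, h11, h22, h33, h12, h13, h23, h21, h31,
      h32, mul_zero, zero_mul, add_zero, zero_add, mul_one]
    match_scalars
    all_goals grind
  have e1' : pr g₀ * pr g₂ * pr η * pr η = pr d' * pr d := by
    refine act_ext fun y => ?_
    rw [act_mul, act_mul, act_mul, act_mul, hη, hη, hc₂.2, hc₀.2, ha.2, ha'.2]
    simp only [add_left hF, add_right hF, smul_left hF, smul_right hF, h11, h22, h33, h12, h13, h23, h21, h31,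
      h32, mul_zero, zero_mul, add_zero, zero_add, mul_one]
    match_scalars
    all_goals grind
  have hx1 := closure_diff_map S hx
  have hne : ∀ {g : G} {c : V5}, IsPt (pr g) c → h5 c (f₁ + f₂) ≠ 0 → ¬ Commute (pr g) (pr d) :=
    fun hg hh h => hh ((hg.commute_iff hF ha).1 h)
  have hk : ∀ g ∈ D, ¬ Commute (pr g) (pr d) → x = (g * x * g) * (d * (g * x * g) * d) := fun g hg h =>
    key_identity S ha hd rfl hg h hx
  have k' := hk d' hd' (hne ha' (by
    rw [add_left hF, smul_left hF, add_right hF, add_right hF, h11, h12, h21, h22, zero_add, add_zero, mul_one]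
    intro h
    exact one_ne_zero (show (1 : F) = 0 by linear_combination hw - (w * 1) * h)))
  have k₀ := hk g₀ hg₀ (hne hc₀ (by
    rw [add_left hF, add_right hF, add_right hF, h21, h22, h31, h32, zero_add, add_zero, add_zero]
    exact one_ne_zero))
  have k₁ := hk g₁ hg₁ (hne hc₁ (by
    rw [add_left hF, smul_left hF, add_right hF, add_right hF, h21, h22, h31, h32, zero_add, add_zero,
      mul_zero, add_zero]
    exact one_ne_zero))
  have k₂ := hk g₂ hg₂ (hne hc₂ (by
    rw [add_left hF, smul_left hF, add_right hF, add_right hF, h21, h22, h31, h32, zero_add, add_zero,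
      mul_zero, add_zero]
    exact one_ne_zero))
  have i₀ := S.tt.inv_eq hg₀
  have id' := S.tt.inv_eq hd'
  have idd := S.tt.inv_eq hd
  have hdx : d * x * d = x := by
    rw [← (closure_diff_commute S hd (Commute.refl (pr d)) hx).eq, mul_assoc, S.tt.sq d hd, mul_one]
  have s₁ : g₁ * x * g₁ = g₀ * (d * (d' * x * d') * d) * g₀ := by
    have h := S.conj_congr (g := g₁) (g' := g₀ * d * d' * η⁻¹) (v := x) ?_ hx1
    · have hfix' : η⁻¹ * x * η = x := by
        conv_lhs => rw [← hfix]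
        group
      rw [S.tt.inv_eq hg₁, show g₀ * d * d' * η⁻¹ * x * (g₀ * d * d' * η⁻¹)⁻¹ =
        g₀ * d * d' * (η⁻¹ * x * η) * d'⁻¹ * d⁻¹ * g₀⁻¹ by group, hfix', i₀, id', idd] at h
      rw [h]; group
    · have hsq : pr g₀ * pr g₀ = 1 := by rw [← map_mul, S.tt.sq g₀ hg₀, map_one]
      calc pr g₁ = (pr g₀ * pr g₀) * pr g₁ * pr η * (pr η)⁻¹ := by rw [hsq]; group
        _ = pr g₀ * (pr g₀ * pr g₁ * pr η) * (pr η)⁻¹ := by group
        _ = pr (g₀ * d * d' * η⁻¹) := by rw [e1, map_mul, map_mul, map_mul, map_inv]; group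
  have s₂ : g₂ * x * g₂ = g₀ * (d' * x * d') * g₀ := by
    have h := S.conj_congr (g := g₂) (g' := g₀ * d' * d * η⁻¹ * η⁻¹) (v := x) ?_ hx1
    · have hfix' : η⁻¹ * x * η = x := by
        conv_lhs => rw [← hfix]
        group
      have hfix2 : η⁻¹ * η⁻¹ * x * (η * η) = x := by
        rw [show η⁻¹ * η⁻¹ * x * (η * η) = η⁻¹ * (η⁻¹ * x * η) * η by simp only [mul_assoc], hfix', hfix']
      rw [S.tt.inv_eq hg₂, show g₀ * d' * d * η⁻¹ * η⁻¹ * x * (g₀ * d' * d * η⁻¹ * η⁻¹)⁻¹ =
        g₀ * d' * d * (η⁻¹ * η⁻¹ * x * (η * η)) * d⁻¹ * d'⁻¹ * g₀⁻¹ by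
          simp only [mul_inv_rev, inv_inv, mul_assoc], hfix2, i₀, id', idd] at h
      rw [h, show g₀ * d' * d * x * d * d' * g₀ = g₀ * (d' * (d * x * d) * d') * g₀ by group, hdx]
    · have hsq : pr g₀ * pr g₀ = 1 := by rw [← map_mul, S.tt.sq g₀ hg₀, map_one]
      calc pr g₂ = (pr g₀ * pr g₀) * pr g₂ * pr η * pr η * (pr η)⁻¹ * (pr η)⁻¹ := by rw [hsq]; group
        _ = pr g₀ * (pr g₀ * pr g₂ * pr η * pr η) * (pr η)⁻¹ * (pr η)⁻¹ := by group
        _ = pr (g₀ * d' * d * η⁻¹ * η⁻¹) := by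
            rw [e1', map_mul, map_mul, map_mul, map_mul, map_inv]; group
  set T := d' * x * d' with hT
  set u₀ := g₀ * x * g₀ with hu₀
  set u₁ := g₁ * x * g₁ with hu₁
  set u₂ := g₂ * x * g₂ with hu₂
  have kerconj : ∀ {g v : G}, g ∈ D → pr v = 1 → pr (g * v * g) = 1 := fun hg hv => by
    rw [map_mul, map_mul, hv, mul_one, ← map_mul, S.tt.sq _ hg, map_one]
  have hT1 : pr T = 1 := kerconj hd' hx1
  have a₀ : pr u₀ = 1 := kerconj hg₀ hx1
  have a₁ : pr u₁ = 1 := kerconj hg₁ hx1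
  have a₂ : pr u₂ = 1 := kerconj hg₂ hx1
  have b₁ : pr (d * u₁ * d) = 1 := kerconj hd a₁
  have b₀ : pr (d * u₀ * d) = 1 := kerconj hd a₀
  have hprod : u₀ * (u₁ * u₂) = 1 := by
    rw [hu₀, s₁, s₂]
    calc g₀ * x * g₀ * (g₀ * (d * T * d) * g₀ * (g₀ * T * g₀))
        = g₀ * (x * (g₀ * g₀) * ((d * T * d) * (g₀ * g₀) * T)) * g₀ := by group
      _ = g₀ * (x * ((d * T * d) * T)) * g₀ := by rw [S.tt.sq g₀ hg₀, mul_one, mul_one]
      _ = g₀ * (x * x) * g₀ := by rw [S.ker_comm (kerconj hd hT1) hT1, ← k']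
      _ = 1 := by rw [S.ker_sq hx1, mul_one, S.tt.sq g₀ hg₀]
  calc x = x * (x * x) := by rw [S.ker_sq hx1, mul_one]
    _ = (u₀ * (d * u₀ * d)) * ((u₁ * (d * u₁ * d)) * (u₂ * (d * u₂ * d))) := by rw [← k₀, ← k₁, ← k₂]
    _ = (u₀ * (u₁ * u₂)) * ((d * u₀ * d) * ((d * u₁ * d) * (d * u₂ * d))) := by
        have m1 : (u₁ * (d * u₁ * d)) * (u₂ * (d * u₂ * d)) = (u₁ * u₂) * ((d * u₁ * d) * (d * u₂ * d)) := by
          rw [mul_assoc, ← mul_assoc (d * u₁ * d), S.ker_comm b₁ a₂]; group
        have h12 : pr (u₁ * u₂) = 1 := by rw [map_mul, a₁, a₂, one_mul]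
        rw [m1, mul_assoc, ← mul_assoc (d * u₀ * d), S.ker_comm b₀ h12]; group
    _ = 1 := by
        rw [hprod, one_mul, show (d * u₀ * d) * ((d * u₁ * d) * (d * u₂ * d)) =
          d * u₀ * (d * d) * u₁ * (d * d) * u₂ * d by group, S.tt.sq d hd, mul_one, mul_one,
          show d * u₀ * u₁ * u₂ * d = d * (u₀ * (u₁ * u₂)) * d by group, hprod, mul_one, S.tt.sq d hd]

/-- A lift of the element `z` of a coordinate fixes only trivial products of lifts of a point vanishing
there. -/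
theorem fpf_coord {w : F} (hw : w ^ 2 + w + 1 = 0) {i : Fin 5} {z : SU5} (hz : IsZ w z (Pi.single i 1))
    {ζ : G} (hζ : pr ζ = z) {a : SU5} {u : V5} (ha : IsPt a u) (hui : u i = 0) {x : G}
    (hx : x ∈ Subgroup.closure (diffSet D pr a)) (hfix : ζ * x * ζ⁻¹ = x) : x = 1 := by
  have hF := S.field
  have := charTwo hF
  set e : V5 := Pi.single i 1 with he
  have hee : h5 e e = 1 := by rw [he, form_single_right, Pi.single_eq_same]
  have h0 : ∀ y : V5, InW (Fin.elim0 : Fin 0 → V5) y := fun _ j => j.elim0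
  have hΦ := (Ortho.nil (n := 5) (F := F) Fin.elim0).cons hF (h0 e) hee
  have huW : InW (Fin.cons e Fin.elim0 : Fin 1 → V5) u :=
    inW_cons.2 ⟨by rw [he, form_single_right, hui], h0 u⟩
  obtain ⟨v, hv, hvW, hvu⟩ := exists_isoPartner hF hΦ ha.1 huW
  have hΨ := hΦ.hyp hF huW hvW ha.1.2 hv.2 hvu hw
  obtain ⟨f₃, hf₃, h33⟩ := exists_unit hF hΨ (by norm_num)
  have hΨ₄ := hΨ.cons hF hf₃ h33
  obtain ⟨r, hr, hrr⟩ := exists_unit hF hΨ₄ (by norm_num)
  have hfull := hΨ₄.cons hF hr hrr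
  obtain ⟨hr3, hr'⟩ := inW_cons.1 hr
  obtain ⟨hru, hrv, hrW⟩ := (inW_hyp hF hw).1 hr'
  obtain ⟨hre, -⟩ := inW_cons.1 hrW
  obtain ⟨h3u, h3v, h3W⟩ := (inW_hyp hF hw).1 hf₃
  obtain ⟨h3e, -⟩ := inW_cons.1 h3W
  obtain ⟨hue, -⟩ := inW_cons.1 huW
  obtain ⟨hve, -⟩ := inW_cons.1 hvW
  have her := (comm_zero hF).1 hre
  have huv := comm_one hF hvu
  have h3 : w ^ 3 = 1 := by linear_combination (w - 1) * hw
  have e2 : (2 : F) = 0 := CharTwo.two_eq_zero
  set f₁ := (w * w) • (u + w • v) with hf1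
  set f₂ := w • (u + (w * w) • v) with hf2
  have h11 : h5 f₁ f₁ = 1 := by
    simp only [hf1, add_left hF, add_right hF, smul_left hF, smul_right hF, ha.1.2, hv.2, hvu, huv]
    grind
  have h22 : h5 f₂ f₂ = 1 := by
    simp only [hf2, add_left hF, add_right hF, smul_left hF, smul_right hF, ha.1.2, hv.2, hvu, huv]
    grind
  have h12 : h5 f₁ f₂ = 0 := by
    simp only [hf1, hf2, add_left hF, add_right hF, smul_left hF, smul_right hF, ha.1.2, hv.2, hvu, huv]
    grind
  have h13 : h5 f₁ f₃ = 0 := by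
    simp only [hf1, add_left hF, smul_left hF, (comm_zero hF).1 h3u, (comm_zero hF).1 h3v, mul_zero, add_zero]
  have h23 : h5 f₂ f₃ = 0 := by
    simp only [hf2, add_left hF, smul_left hF, (comm_zero hF).1 h3u, (comm_zero hF).1 h3v, mul_zero, add_zero]
  have hu12 : u = f₁ + f₂ := by
    rw [hf1, hf2]
    match_scalars
    all_goals grind
  obtain ⟨t₁, ht₁⟩ := exists_pt hF (add_isot hF hrr hee hre)
  have hw0 : w ≠ 0 := fun h => by rw [h] at hw; simp at hw
  obtain ⟨t₂, ht₂⟩ := exists_pt hF (v := r + w • e)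
    (add_isot hF hrr (by rw [smul_norm hF hw0, hee]) (by rw [smul_right hF, hre, mul_zero]))
  obtain ⟨d₁, hd₁, rfl⟩ := S.lift t₁ _ ht₁
  obtain ⟨d₂, hd₂, rfl⟩ := S.lift t₂ _ ht₂
  have hc₁ : Commute (pr d₁) a := (ht₁.commute_iff hF ha).2 (by
    rw [add_left hF, hru, (comm_zero hF).1 hue, add_zero])
  have hc₂ : Commute (pr d₂) a := (ht₂.commute_iff hF ha).2 (by
    rw [add_left hF, smul_left hF, hru, (comm_zero hF).1 hue, mul_zero, add_zero])
  have fixD : ∀ g ∈ D, Commute (pr g) a → g * x * g⁻¹ = x := fun g hg h => by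
    rw [← (closure_diff_commute S hg h hx).eq, mul_inv_cancel_right]
  refine fpf S hw h11 h22 h33 h12 h13 h23 (hu12 ▸ ha) (η := ζ * d₂ * d₁) (fun y => ?_) hx ?_
  · have hy : y + ((h5 y f₁ • f₁ + h5 y f₂ • f₂ + h5 y f₃ • f₃) + (h5 y r • r + h5 y e • e)) = 0 := by
      refine eq_zero_of_full hF hfull le_rfl (inW_cons.2 ⟨?_, inW_cons.2 ⟨?_, (inW_hyp hF hw).2 ⟨?_, ?_,
        inW_cons.2 ⟨?_, fun j => j.elim0⟩⟩⟩⟩)
      all_goals
        simp only [hf1, hf2, add_left hF, smul_left hF, add_right hF, smul_right hF, ha.1.2, hv.2, hvu, huv,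
          h33, hrr, hee, hre, her, hr3, (comm_zero hF).1 hr3, hru, hrv, h3u, h3v, h3e, hue, hve,
          (comm_zero hF).1 hru, (comm_zero hF).1 hrv, (comm_zero hF).1 h3u, (comm_zero hF).1 h3v,
          (comm_zero hF).1 h3e, (comm_zero hF).1 hue, (comm_zero hF).1 hve, mul_zero, add_zero, zero_add,
          mul_one]
        grind
    rw [map_mul, map_mul, hζ, act_mul, act_mul, hz, ht₂.2, ht₁.2]
    simp only [add_left hF, add_right hF, smul_left hF, smul_right hF, hrr, hee, hre, her, mul_zero, add_zero,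
      zero_add, mul_one]
    linear_combination (norm := skip) (w * w) • hy
    match_scalars
    all_goals grind
  · rw [show ζ * d₂ * d₁ * x * (ζ * d₂ * d₁)⁻¹ = ζ * (d₂ * (d₁ * x * d₁⁻¹) * d₂⁻¹) * ζ⁻¹ by group,
      fixD d₁ hd₁ hc₁, fixD d₂ hd₂ hc₂, hfix]

end CfsgLib.SURadical
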