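import Cfsg.Agent.Lib.ThreeTransp.SURadical.Split

/-!
# The complement over `SU₅(2)`
-/

set_option autoImplicit false

namespace CfsgLib.SURadical

open Cfsg
open CfsgLib.PSUAut
open CfsgLib.ThreeTransp (IsTT)

variable {F : Type} [Field F] [Fintype F]

local notation "V5" => Fin 5 → F
local notation "h5" => Cfsg.hermForm 5 F 2
local notation "SU5" => (Cfsg.SU 5 F 2)

variable {G : Type*} [Group G] [Finite G] {D : Set G} {pr : G →* (Cfsg.SU 5 F 2)}
variable (S : Setting D pr)
include S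

/-- Commuting lifts of order dividing three of the coordinate elements. -/
theorem exists_torus {w : F} (hw : w ^ 2 + w + 1 = 0) :
    ∃ ζ : Fin 5 → G, (∀ i, IsZ w (pr (ζ i)) (Pi.single i 1)) ∧ (∀ i j, Commute (ζ i) (ζ j)) ∧
      ∀ i, ζ i ^ 3 = 1 := by
  classical
  haveI : Fact (Nat.Prime 3) := ⟨Nat.prime_three⟩
  have hF := S.field
  have := charTwo hF
  have e2 : (2 : F) = 0 := CharTwo.two_eq_zero
  have h3 : w ^ 3 = 1 := by linear_combination (w - 1) * hw
  choose z hz using exists_isZ hF hw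
  have hzc : ∀ i j, z i * z j = z j * z i := by
    intro i j
    refine act_ext fun y => ?_
    rw [act_mul, act_mul, hz, hz, hz, hz]
    funext k
    simp only [form_single_right, Pi.add_apply, Pi.smul_apply, smul_eq_mul, Pi.single_apply]
    by_cases hij : i = j
    · subst hij; rfl
    · by_cases hki : k = i <;> by_cases hkj : k = j <;> by_cases hji : j = i <;>
        simp_all <;> grind
  have hz3 : ∀ i, z i ^ 3 = 1 := by
    intro i
    refine act_ext fun y => ?_
    rw [pow_succ, pow_two, act_mul, act_mul, hz, hz, hz, act_one]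
    funext k
    simp only [form_single_right, Pi.add_apply, Pi.smul_apply, smul_eq_mul, Pi.single_apply]
    by_cases hki : k = i <;> simp_all <;> grind
  set T := Subgroup.closure (Set.range z) with hT
  have hTc : ∀ x ∈ T, ∀ y ∈ T, Commute x y := by
    intro x hx y hy
    refine Subgroup.closure_induction (p := fun x _ => Commute x y) ?_ (Commute.one_left y)
      (fun _ _ _ _ h h' => h.mul_left h') (fun _ _ h => h.inv_left) hx
    rintro _ ⟨i, rfl⟩
    refine Subgroup.closure_induction (p := fun y _ => Commute (z i) y) ?_ (Commute.one_right _)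
      (fun _ _ _ _ h h' => h.mul_right h') (fun _ _ h => h.inv_right) hy
    rintro _ ⟨j, rfl⟩
    exact hzc i j
  have hT3 : IsPGroup 3 T := by
    rintro ⟨x, hx⟩
    refine ⟨1, Subtype.ext ?_⟩
    show x ^ (3 ^ 1) = 1
    rw [pow_one]
    refine Subgroup.closure_induction (p := fun x _ => x ^ 3 = 1) ?_ (one_pow 3) ?_ ?_ hx
    · rintro _ ⟨i, rfl⟩; exact hz3 i
    · intro a b ha hb h h'; rw [(hTc a ha b hb).mul_pow, h, h', one_mul]
    · intro a _ h; rw [inv_pow, h, inv_one]
  let q : T.comap pr →* T := (pr.comp (T.comap pr).subtype).codRestrict T fun x => x.2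
  have hq : Function.Surjective q := by
    rintro ⟨y, hy⟩
    obtain ⟨g, rfl⟩ := S.surj y
    exact ⟨⟨g, hy⟩, rfl⟩
  obtain ⟨P⟩ : Nonempty (Sylow 3 (T.comap pr)) := inferInstance
  have htop : (P.mapSurjective hq : Subgroup T) = ⊤ :=
    ((P.mapSurjective hq).3 (hT3.to_subgroup ⊤) le_top).symm
  have hone : ∀ x ∈ (P : Subgroup (T.comap pr)), pr (x : G) = 1 → x = 1 := by
    intro x hx h1
    obtain ⟨a, ha⟩ := P.2 ⟨x, hx⟩
    have ha' : x ^ (3 ^ a) = 1 := by simpa using congrArg Subtype.val ha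
    obtain ⟨b, hb⟩ := S.two ⟨(x : G), h1⟩
    have hb' : x ^ (2 ^ b) = 1 := by
      refine Subtype.ext ?_
      simpa using congrArg Subtype.val hb
    have h := pow_gcd_eq_one.2 ⟨ha', hb'⟩
    rwa [show Nat.gcd (3 ^ a) (2 ^ b) = 1 from Nat.Coprime.pow a b (by norm_num), pow_one] at h
  have hex : ∀ i, ∃ x ∈ (P : Subgroup (T.comap pr)), pr (x : G) = z i := by
    intro i
    have hm : (⟨z i, Subgroup.subset_closure ⟨i, rfl⟩⟩ : T) ∈ (P.mapSurjective hq : Subgroup T) :=
      htop ▸ Subgroup.mem_top _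
    obtain ⟨x, hx, hxe⟩ := hm
    exact ⟨x, hx, congrArg Subtype.val hxe⟩
  choose ζ hζP hζ using hex
  refine ⟨fun i => (ζ i : G), fun i => by rw [hζ i]; exact hz i, fun i j => ?_, fun i => ?_⟩
  · have h := hone (ζ i * ζ j * (ζ j * ζ i)⁻¹)
      (mul_mem (mul_mem (hζP i) (hζP j)) (inv_mem (mul_mem (hζP j) (hζP i))))
      (by
        simp only [Subgroup.coe_mul, Subgroup.coe_inv, map_mul, map_inv, hζ]
        rw [hzc i j, mul_inv_cancel])
    exact congrArg Subtype.val (mul_inv_eq_one.1 h)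
  · have h := hone (ζ i ^ 3) (pow_mem (hζP i) 3) (by rw [SubmonoidClass.coe_pow, map_pow, hζ, hz3])
    simpa using congrArg Subtype.val h

variable {w : F} (hw : w ^ 2 + w + 1 = 0) {ζ : Fin 5 → G}
  (hζ : ∀ i, IsZ w (pr (ζ i)) (Pi.single i 1)) (hζc : ∀ i j, Commute (ζ i) (ζ j))
  (hζ3 : ∀ i, ζ i ^ 3 = 1)
include hw hζ hζc hζ3

theorem map_conj_fixed {x : SU5} {u : V5} (hx : IsPt x u) {i : Fin 5} (hi : u i = 0) :
    pr (ζ i) * x * (pr (ζ i))⁻¹ = x := by
  have _ := hζc; have _ := hζ3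
  have h1 : act (pr (ζ i)) u = w • u := by
    rw [hζ i, form_single_right, hi, zero_smul, add_zero]
  have hw0 : w ≠ 0 := fun h => by rw [h] at hw; simp at hw
  have h2 := hx.conj (pr (ζ i))
  rw [h1] at h2
  exact IsPt.unique S.field h2 (hx.smul S.field hw0)

theorem conj_lift_map {x : SU5} {u : V5} (hx : IsPt x u) {i : Fin 5} (hi : u i = 0) {d : G} (hd : pr d = x) :
    pr (ζ i * d * (ζ i)⁻¹) = x := by
  rw [map_mul, map_mul, map_inv, hd, map_conj_fixed S hw hζ hζc hζ3 hx hi]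

/-- Existence of a lift fixed by the torus element. -/
theorem exists_fixed_lift {x : SU5} {u : V5} (hx : IsPt x u) {i : Fin 5} (hi : u i = 0) :
    ∃ d ∈ D, pr d = x ∧ ζ i * d * (ζ i)⁻¹ = d := by
  obtain ⟨d, hd, hdx⟩ := S.lift x u hx
  set d₁ := ζ i * d * (ζ i)⁻¹ with hd₁def
  set d₂ := ζ i * d₁ * (ζ i)⁻¹ with hd₂def
  have hd₁ : d₁ ∈ D := S.tt.conj _ d hd
  have hd₂ : d₂ ∈ D := S.tt.conj _ d₁ hd₁
  have h1x : pr d₁ = x := conj_lift_map S hw hζ hζc hζ3 hx hi hdx
  have h2x : pr d₂ = x := conj_lift_map S hw hζ hζc hζ3 hx hi h1x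
  have h3 : ζ i * d₂ * (ζ i)⁻¹ = d := by
    rw [hd₂def, hd₁def, show ζ i * (ζ i * (ζ i * d * (ζ i)⁻¹) * (ζ i)⁻¹) * (ζ i)⁻¹ =
      (ζ i * ζ i * ζ i) * d * (ζ i * ζ i * ζ i)⁻¹ by group,
      show ζ i * ζ i * ζ i = 1 by rw [← hζ3 i, pow_succ, pow_two]]
    group
  have c01 := S.commute_of_map hd hd₁ (by rw [hdx, h1x])
  have c02 := S.commute_of_map hd hd₂ (by rw [hdx, h2x])
  have c12 := S.commute_of_map hd₁ hd₂ (by rw [h1x, h2x])
  have hmem : d₁ * d₂ ∈ Subgroup.closure (diffSet D pr x) :=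
    Subgroup.subset_closure ⟨d₁, hd₁, d₂, hd₂, h1x, h2x, rfl⟩
  obtain ⟨v, hv, hdv⟩ := exists_ker_conj S hx hd hdx hmem
  have hinv : v⁻¹ = v := inv_eq_of_mul_eq_one_right (S.ker_sq hv)
  have hm : d * (d₁ * d₂) ∈ D := by
    rw [hdv]
    have := S.tt.conj v d hd
    rwa [hinv] at this
  refine ⟨_, hm, ?_, ?_⟩
  · rw [map_mul, map_mul, hdx, h1x, h2x]
    have := IsPt.mul_self S.field hx
    rw [this, mul_one]
  · have e : ζ i * (d * (d₁ * d₂)) * (ζ i)⁻¹ = d₁ * (d₂ * d) := by
      calc ζ i * (d * (d₁ * d₂)) * (ζ i)⁻¹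
          = (ζ i * d * (ζ i)⁻¹) * ((ζ i * d₁ * (ζ i)⁻¹) * (ζ i * d₂ * (ζ i)⁻¹)) := by group
        _ = d₁ * (d₂ * d) := by rw [← hd₁def, ← hd₂def, h3]
    rw [e, ← mul_assoc, ← (c01.mul_right c02).eq]

/-- Uniqueness of the fixed lift. -/
theorem fixed_lift_unique {x : SU5} {u : V5} (hx : IsPt x u) {i : Fin 5} (hi : u i = 0) {d d' : G}
    (hd : d ∈ D) (hd' : d' ∈ D) (hdx : pr d = x) (hd'x : pr d' = x) (h : ζ i * d * (ζ i)⁻¹ = d)
    (h' : ζ i * d' * (ζ i)⁻¹ = d') : d = d' := by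
  have hmem : d * d' ∈ Subgroup.closure (diffSet D pr x) :=
    Subgroup.subset_closure ⟨d, hd, d', hd', hdx, hd'x, rfl⟩
  have h1 := fpf_coord S hw (hζ i) rfl hx hi hmem (by
    rw [show ζ i * (d * d') * (ζ i)⁻¹ = (ζ i * d * (ζ i)⁻¹) * (ζ i * d' * (ζ i)⁻¹) by group, h, h'])
  exact (eq_inv_of_mul_eq_one_left h1).trans (S.tt.inv_eq hd')

/-- The kernel has no nontrivial fixed point for two torus elements. -/
theorem ker_fixed_two {k l : Fin 5} (hkl : k ≠ l) {v : G} (hv : pr v = 1) (hvk : Commute v (ζ k))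
    (hvl : Commute v (ζ l)) : v = 1 := by
  have hF := S.field
  have good : ∀ {x : SU5} {u : V5} (m : Fin 5), IsPt x u → u m = 0 → Commute v (ζ m) →
      ∃ d ∈ D, pr d = x ∧ Commute v d := by
    intro x u m hx hm hvm
    obtain ⟨d, hd, hdx, hfix⟩ := exists_fixed_lift S hw hζ hζc hζ3 hx hm
    refine ⟨d, hd, hdx, ?_⟩
    have hfv : ζ m * v * (ζ m)⁻¹ = v := by rw [← hvm.eq, mul_inv_cancel_right]
    have h1 := fpf_coord S hw (hζ m) rfl hx hm (Subgroup.subset_closure (S.mul_conj_mem hd hdx hv)) (by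
      rw [show ζ m * (v * (d * v * d)) * (ζ m)⁻¹ =
        (ζ m * v * (ζ m)⁻¹) * ((ζ m * d * (ζ m)⁻¹) * (ζ m * v * (ζ m)⁻¹) * (ζ m * d * (ζ m)⁻¹)) by group,
        hfix, hfv])
    have h2 : d * v * d = v := mul_left_cancel (h1.trans (S.ker_sq hv).symm)
    show v * d = d * v
    conv_lhs => rw [← h2]
    rw [mul_assoc, S.tt.sq d hd, mul_one]
  -- every point has a lift commuting with `v`
  have hall : ∀ {x : SU5} {u : V5}, IsPt x u → ∃ d ∈ D, pr d = x ∧ Commute v d := by
    intro x u hx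
    by_cases hk : u k = 0
    · exact good k hx hk hvk
    by_cases hl : u l = 0
    · exact good l hx hl hvl
    obtain ⟨j, hj⟩ := exists_zero hF hx.1
    have hjk : j ≠ k := fun e => hk (e ▸ hj)
    have hjl : j ≠ l := fun e => hl (e ▸ hj)
    set c : V5 := u k • Pi.single k 1 + Pi.single j 1 with hc
    have hck : c k = u k := by simp [hc, Ne.symm hjk]
    have hcj : c j = 1 := by simp [hc, hjk]
    have hcl : c l = 0 := by simp [hc, Ne.symm hkl, Ne.symm hjl]
    have hcc : Isot 2 c := by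
      refine ⟨fun h => by simpa [hck, hk] using congrFun h k, ?_⟩
      simp only [hc, add_left hF, add_right hF, smul_left hF, smul_right hF, form_single_right, Pi.single_eq_same,
        Pi.single_eq_of_ne hjk, Pi.single_eq_of_ne hjk.symm, mul_zero, add_zero, zero_add, mul_one]
      rw [← pow_succ', cube_eq_one hF hk]
      exact add_self hF 1
    have huc : h5 u c = 1 := by
      simp only [hc, add_right hF, smul_right hF, form_single_right, hj, add_zero]
      rw [← pow_succ, cube_eq_one hF hk]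
    obtain ⟨q, hq⟩ := exists_pt hF hcc
    have hy := hq.cj hF hx
    have hy0 : (u + h5 u c • c) k = 0 := by
      rw [huc, one_smul, Pi.add_apply, hck]
      exact add_self hF _
    obtain ⟨dq, hdq, hdqx, hvq⟩ := good l hq hcl hvl
    obtain ⟨dy, hdy, hdyx, hvy⟩ := good k hy hy0 hvk
    refine ⟨dq * dy * dq, S.tt.cj_mem hdq hdy, ?_, (hvq.mul_right hvy).mul_right hvq⟩
    rw [map_mul, map_mul, hdqx, hdyx, show q * (q * x * q) * q = (q * q) * x * (q * q) by group, hq.mul_self hF,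
      one_mul, mul_one]
  have hc : v ∈ Subgroup.center G := by
    rw [Subgroup.mem_center_iff]
    intro g
    have hg : g ∈ Subgroup.centralizer {v} := by
      refine (Subgroup.closure_le _).2 ?_ (S.gen.symm ▸ Subgroup.mem_top g)
      intro d hd
      obtain ⟨u, hu⟩ := S.pt d hd
      obtain ⟨d', hd', hd'x, hvd'⟩ := hall hu
      refine Subgroup.mem_centralizer_singleton_iff.2 (Commute.eq ?_)
      have hw' : pr (d' * d) = 1 := by rw [map_mul, hd'x, ← map_mul, S.tt.sq d hd, map_one]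
      have h1 : Commute v (d' * d) := S.ker_comm hv hw'
      have h2 := hvd'.mul_right h1
      rw [← mul_assoc, S.tt.sq d' hd', one_mul] at h2
      exact h2.symm
    exact Subgroup.mem_centralizer_singleton_iff.1 hg
  rwa [S.center, Subgroup.mem_bot] at hc

/-- A family of torus-fixed lifts. -/
theorem exists_section : ∃ s : SU5 → G, ∀ (x : SU5) (u : V5), IsPt x u →
    s x ∈ D ∧ pr (s x) = x ∧ ∀ i, u i = 0 → ζ i * s x * (ζ i)⁻¹ = s x := by
  classical
  have hF := S.field
  have h : ∀ x : SU5, ∃ d : G, ∀ u : V5, IsPt x u →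
      d ∈ D ∧ pr d = x ∧ ∀ i, u i = 0 → ζ i * d * (ζ i)⁻¹ = d := by
    intro x
    by_cases hx : ∃ u, IsPt x u
    · obtain ⟨u, hu⟩ := hx
      obtain ⟨i₀, hi₀⟩ := exists_zero hF hu.1
      obtain ⟨d, hd, hdx, hfix⟩ := exists_fixed_lift S hw hζ hζc hζ3 hu hi₀
      refine ⟨d, fun u' hu' => ⟨hd, hdx, fun i hi => ?_⟩⟩
      obtain ⟨a, ha, hau⟩ := IsPt.span_eq hF hu' hu
      have hi' : u i = 0 := by rw [hau, Pi.smul_apply, hi, smul_zero]
      refine fixed_lift_unique S hw hζ hζc hζ3 hu hi₀ (S.tt.conj _ d hd) hd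
        (conj_lift_map S hw hζ hζc hζ3 hu hi' hdx) hdx ?_ hfix
      calc ζ i₀ * (ζ i * d * (ζ i)⁻¹) * (ζ i₀)⁻¹
          = (ζ i₀ * ζ i) * d * (ζ i₀ * ζ i)⁻¹ := by group
        _ = (ζ i * ζ i₀) * d * (ζ i * ζ i₀)⁻¹ := by rw [(hζc i₀ i).eq]
        _ = ζ i * (ζ i₀ * d * (ζ i₀)⁻¹) * (ζ i)⁻¹ := by group
        _ = ζ i * d * (ζ i)⁻¹ := by rw [hfix]
    · exact ⟨1, fun u hu => absurd ⟨u, hu⟩ hx⟩
  choose s hs using h
  exact ⟨s, fun x u hx => hs x u hx⟩

variable {s : (Cfsg.SU 5 F 2) → G}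
  (hs : ∀ (x : Cfsg.SU 5 F 2) (u : Fin 5 → F), IsPt x u →
    s x ∈ D ∧ pr (s x) = x ∧ ∀ i, u i = 0 → ζ i * s x * (ζ i)⁻¹ = s x)
include hs

theorem conj_eq_lift {g q : SU5} {u v : V5} (hg : IsPt g u) (hq : IsPt q v) {j : Fin 5}
    (hj : (v + h5 v u • u) j = 0) (hfix : Commute (ζ j) (s g * s q * s g)) :
    s g * s q * s g = s (g * q * g) := by
  obtain ⟨hgD, hgp, -⟩ := hs g u hg
  obtain ⟨hqD, hqp, -⟩ := hs q v hq
  have hy := hg.cj S.field hq
  obtain ⟨hyD, hyp, hyf⟩ := hs _ _ hy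
  exact fixed_lift_unique S hw hζ hζc hζ3 hy hj (S.tt.cj_mem hgD hqD) hyD
    (by rw [map_mul, map_mul, hgp, hqp]) hyp (by rw [hfix.eq, mul_inv_cancel_right]) (hyf j hj)

theorem fix_commute {g : SU5} {u : V5} (hg : IsPt g u) {j : Fin 5} (hj : u j = 0) : Commute (ζ j) (s g) := by
  have h := (hs g u hg).2.2 j hj
  exact mul_inv_eq_iff_eq_mul.1 h

theorem good_comm {g q : SU5} {u v : V5} (hg : IsPt g u) (hq : IsPt q v) (h : h5 u v = 0) :
    s g * s q * s g = s (g * q * g) := by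
  obtain ⟨hgD, hgp, -⟩ := hs g u hg
  obtain ⟨hqD, hqp, -⟩ := hs q v hq
  have hc := (hg.commute_iff S.field hq).2 h
  rw [hc.eq, mul_assoc q g g, hg.mul_self S.field, mul_one,
    (S.commute_of_map hgD hqD (by rw [hgp, hqp]; exact hc)).eq, mul_assoc, S.tt.sq _ hgD, mul_one]

theorem good_zero {g q : SU5} {u v : V5} (hg : IsPt g u) (hq : IsPt q v) {j : Fin 5} (hu : u j = 0)
    (hv : v j = 0) : s g * s q * s g = s (g * q * g) := by
  refine conj_eq_lift S hw hζ hζc hζ3 hs hg hq (j := j) (by simp [hu, hv]) ?_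
  exact ((fix_commute S hw hζ hζc hζ3 hs hg hu).mul_right (fix_commute S hw hζ hζc hζ3 hs hq hv)).mul_right
    (fix_commute S hw hζ hζc hζ3 hs hg hu)

theorem good_symm {g q : SU5} {u v : V5} (hg : IsPt g u) (hq : IsPt q v) (hne : h5 u v ≠ 0)
    (h : s q * s g * s q = s (q * g * q)) : s g * s q * s g = s (g * q * g) := by
  obtain ⟨hgD, hgp, -⟩ := hs g u hg
  obtain ⟨hqD, hqp, -⟩ := hs q v hq
  have hnc : ¬ Commute (s g) (s q) := fun hc => hne ((hg.commute_iff S.field hq).1 (by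
    have := hc.map pr
    rwa [hgp, hqp] at this))
  have hb := S.tt.braid hgD hqD hnc
  rw [hb, h]
  congr 1
  have := congrArg pr hb
  simpa [hgp, hqp] using this.symm

theorem good_wt2 {g q : SU5} {u v : V5} (hg : IsPt g u) (hq : IsPt q v) (hwt : Wt2 u) :
    s g * s q * s g = s (g * q * g) := by
  have hF := S.field
  obtain ⟨l, hl⟩ := exists_zero hF hq.1
  by_cases hul : u l = 0
  · exact good_zero S hw hζ hζc hζ3 hs hg hq hul hl
  obtain ⟨i, j, hij, hi, hj, hrest⟩ : ∃ i j, i ≠ j ∧ u i ≠ 0 ∧ u j ≠ 0 ∧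
      (∀ k, k ≠ i → k ≠ j → u k = 0) := hwt
  obtain ⟨i, j, hij, hi, hj, hrest, hli⟩ : ∃ i j, i ≠ j ∧ u i ≠ 0 ∧ u j ≠ 0 ∧
      (∀ k, k ≠ i → k ≠ j → u k = 0) ∧ l = i := by
    by_cases h : l = i
    · exact ⟨i, j, hij, hi, hj, hrest, h⟩
    · by_cases h' : l = j
      · exact ⟨j, i, hij.symm, hj, hi, fun k a b => hrest k b a, h'⟩
      · exact absurd (hrest l h h') hul
  subst hli
  obtain ⟨a, b, c, ⟨hla, hlb, -⟩, ⟨hja, hjb, -⟩, ⟨hab, -, -⟩, -⟩ := zero_exists_three l j hij
  have hua : u a = 0 := hrest a hla.symm hja.symm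
  have hub : u b = 0 := hrest b hlb.symm hjb.symm
  have huu : u = u l • Pi.single l 1 + u j • Pi.single j 1 := by
    funext k
    by_cases hkl : k = l
    · subst hkl; simp [hij.symm]
    · by_cases hkj : k = j
      · subst hkj; simp [hij]
      · simp [hrest k hkl hkj, hkl, hkj]
  obtain ⟨hgD, hgp, -⟩ := hs g u hg
  set x := s g with hx
  have hx2 := S.tt.sq x hgD
  -- `g` exchanges the two torus elements
  have himg : act g (Pi.single l 1) = (u l ^ 2 * u j) • Pi.single j 1 := by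
    have hsl : h5 (Pi.single l 1) u = u l ^ 2 := by
      rw [conj_form hF u (Pi.single l 1), form_single_right]
    have h3 := cube_eq_one hF hi
    rw [hg.2, hsl]
    conv_lhs => arg 2; arg 2; rw [huu]
    rw [smul_add, smul_smul, smul_smul, ← pow_succ, h3, one_smul, ← add_assoc, vadd_self hF, zero_add]
  have hzz : IsZ w (g * pr (ζ l) * g⁻¹) (Pi.single j 1) := by
    have h := (hζ l).conj g
    rw [himg] at h
    have hne : u l ^ 2 * u j ≠ 0 := mul_ne_zero (pow_ne_zero 2 hi) hj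
    have h' := h.smul hF (inv_ne_zero hne)
    rwa [inv_smul_smul₀ hne] at h'
  set d := x * ζ l * x with hd
  have hdz : pr d = pr (ζ j) := by
    rw [hd, map_mul, map_mul, hgp]
    exact ((hg.inv_eq hF) ▸ hzz).unique (hζ j)
  have hca : ∀ k, u k = 0 → Commute d (ζ k) := fun k hk =>
    ((fix_commute S hw hζ hζc hζ3 hs hg hk).symm.mul_left (hζc l k)).mul_left
      (fix_commute S hw hζ hζc hζ3 hs hg hk).symm
  have hdj : d = ζ j := by
    have h1 : pr (d⁻¹ * ζ j) = 1 := by rw [map_mul, map_inv, hdz, inv_mul_cancel]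
    have h2 := ker_fixed_two S hw hζ hζc hζ3 hab h1 ((hca a hua).inv_left.mul_left (hζc j a))
      ((hca b hub).inv_left.mul_left (hζc j b))
    exact inv_mul_eq_one.1 h2
  refine conj_eq_lift S hw hζ hζc hζ3 hs hg hq (j := j) ?_ ?_
  · -- the new zero coordinate
    have hvu : h5 v u = v j * u j ^ 2 := by
      rw [show h5 v u = h5 v (u l • Pi.single l 1 + u j • Pi.single j 1) by rw [← huu]]
      rw [add_right hF, smul_right hF, smul_right hF, form_single_right, form_single_right, hl, mul_zero,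
        zero_add, mul_comm]
    rw [Pi.add_apply, Pi.smul_apply, smul_eq_mul, hvu, mul_assoc, ← pow_succ, cube_eq_one hF hj, mul_one]
    exact add_self hF _
  · rw [← hdj, hd]
    have hc := fix_commute S hw hζ hζc hζ3 hs hq hl
    show x * ζ l * x * (x * s q * x) = x * s q * x * (x * ζ l * x)
    rw [show x * ζ l * x * (x * s q * x) = x * ζ l * (x * x) * s q * x by group,
      show x * s q * x * (x * ζ l * x) = x * s q * (x * x) * ζ l * x by group, hx2, mul_one, mul_one,
      mul_assoc x, hc.eq, ← mul_assoc]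

theorem good_wt2' {g q : SU5} {u v : V5} (hg : IsPt g u) (hq : IsPt q v) (hwt : Wt2 v) :
    s g * s q * s g = s (g * q * g) := by
  by_cases h : h5 u v = 0
  · exact good_comm S hw hζ hζc hζ3 hs hg hq h
  · exact good_symm S hw hζ hζc hζ3 hs hg hq h (good_wt2 S hw hζ hζc hζ3 hs hq hg hwt)

theorem good_third {g q : SU5} {u v : V5} (hg : IsPt g u) (hq : IsPt q v) (hne : h5 u v ≠ 0)
    (hwt : Wt2 (v + h5 v u • u)) : s g * s q * s g = s (g * q * g) := by
  have hF := S.field
  obtain ⟨hgD, hgp, -⟩ := hs g u hg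
  obtain ⟨hqD, hqp, -⟩ := hs q v hq
  have hr := hg.cj hF hq
  obtain ⟨hrD, hrp, -⟩ := hs _ _ hr
  have h := good_wt2 S hw hζ hζc hζ3 hs hr hq hwt
  have hgq : ¬ Commute g q := fun hc => hne ((hg.commute_iff hF hq).1 hc)
  have hbr : g * q * g = q * g * q := by
    have hnc : ¬ Commute (s g) (s q) := fun hc => hgq (by simpa [hgp, hqp] using hc.map pr)
    simpa [hgp, hqp] using congrArg pr (S.tt.braid hgD hqD hnc)
  set r := g * q * g with hrdef
  have hrq : r * q * r = g := by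
    have q2 := hq.mul_self hF
    have g2 := hg.mul_self hF
    calc r * q * r = (q * g * q) * q * (g * q * g) := by rw [← hbr, ← hrdef]
      _ = q * g * (q * q) * (g * q * g) := by group
      _ = q * (g * g) * q * g := by rw [q2]; group
      _ = g := by rw [g2, mul_one, q2, one_mul]
  rw [hrq] at h
  have hncr : ¬ Commute (s r) (s q) := fun hc => by
    have h2 : s r * s q * s r = s q := by rw [hc.eq, mul_assoc, S.tt.sq _ hrD, mul_one]
    rw [h] at h2
    exact hgq (by rw [← hgp, ← hqp, h2])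
  have b1 := S.tt.braid hrD hqD hncr
  rw [← h]
  have r2 := S.tt.sq _ hrD
  have q2 := S.tt.sq _ hqD
  calc s r * s q * s r * s q * (s r * s q * s r) = s q * s r * s q * s q * (s r * s q * s r) := by rw [b1]
    _ = s q * (s r * (s q * s q) * s r) * s q * s r := by group
    _ = s r := by rw [q2, mul_one, r2, mul_one, q2, one_mul]

theorem good_main {g q : SU5} {u v : V5} (hg : IsPt g u) (hq : IsPt q v) {i j a b c : Fin 5} (hij : i ≠ j)
    (hia : i ≠ a) (hib : i ≠ b) (hic : i ≠ c) (hja : j ≠ a) (hjb : j ≠ b) (hjc : j ≠ c) (hab : a ≠ b)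
    (hac : a ≠ c) (hbc : b ≠ c) (hall : ∀ k, k = i ∨ k = j ∨ k = a ∨ k = b ∨ k = c) (hui : u i = 0)
    (huj : u j ≠ 0) (hua : u a ≠ 0) (hub : u b ≠ 0) (huc : u c ≠ 0) (hvj : v j = 0) (hvc : v c ≠ 0)
    (heq : v a * u a ^ 2 = v b * u b ^ 2) (hμ : v a ≠ 0) : s g * s q * s g = s (g * q * g) := by
  have hF := S.field
  have := charTwo hF
  set μ := v a * u a ^ 2 with hμdef
  have hμ0 : μ ≠ 0 := mul_ne_zero hμ (pow_ne_zero 2 hua)
  have hsum : ∀ f : Fin 5 → F, ∑ k, f k = f i + (f j + (f a + (f b + f c))) := by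
    intro f
    rw [show (Finset.univ : Finset (Fin 5)) = {i, j, a, b, c} by
      ext k; simpa using hall k]
    rw [Finset.sum_insert (by simp [hij, hia, hib, hic]), Finset.sum_insert (by simp [hja, hjb, hjc]),
      Finset.sum_insert (by simp [hab, hac]), Finset.sum_insert (by simp [hbc]), Finset.sum_singleton]
  set m : V5 := (μ * u j) • Pi.single j 1 + v c • Pi.single c 1 with hm
  have mj : m j = μ * u j := by simp [hm, hjc]
  have mc : m c = v c := by simp [hm, hjc.symm]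
  have mi : m i = 0 := by simp [hm, hij, hic]
  have ma : m a = 0 := by simp [hm, hja.symm, hac]
  have mb : m b = 0 := by simp [hm, hjb.symm, hbc]
  have hvm : h5 v m = 1 := by
    show ∑ k, v k * m k ^ 2 = 1
    rw [hsum, mi, ma, mb, mj, mc, hvj]
    linear_combination cube_eq_one hF hvc
  have hmI : Isot 2 m := by
    refine ⟨fun h => mul_ne_zero hμ0 huj (by rw [← mj, h, Pi.zero_apply]), ?_⟩
    show ∑ k, m k * m k ^ 2 = 0
    rw [hsum, mi, ma, mb, mj, mc]
    linear_combination cube_eq_one hF (mul_ne_zero hμ0 huj) + cube_eq_one hF hvc + add_self hF (1 : F)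
  obtain ⟨x, hx⟩ := exists_pt hF hmI
  have hxwt : Wt2 m := wt2_of_two_zero hF hmI hab ma mb
  set y := x * q * x with hy
  have hyP : IsPt y (v + m) := by
    have := hx.cj hF hq
    rwa [hvm, one_smul] at this
  have hva : v a = μ * u a := by
    rw [hμdef]; linear_combination -(v a) * cube_eq_one hF hua
  have hvb : v b = μ * u b := by
    rw [heq]; linear_combination -(v b) * cube_eq_one hF hub
  have hyu : h5 (v + m) u = μ := by
    show ∑ k, (v + m) k * u k ^ 2 = μ
    simp only [hsum, Pi.add_apply, mi, ma, mb, mj, mc, hvj, hui, hva, hvb]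
    linear_combination μ * cube_eq_one hF huj + μ * cube_eq_one hF hua + μ * cube_eq_one hF hub +
      add_self hF μ + add_self hF (v c * u c ^ 2)
  have hgy : s g * s y * s g = s (g * y * g) := by
    refine good_third S hw hζ hζc hζ3 hs hg hyP (fun h => hμ0 (by rw [← hyu, (comm_zero hF).1 h])) ?_
    refine wt2_of_two_zero hF (hg.cj hF hyP).1 hab ?_ ?_
    · rw [hyu, Pi.add_apply, Pi.add_apply, Pi.smul_apply, ma, add_zero, hva, smul_eq_mul]
      exact add_self hF _
    · rw [hyu, Pi.add_apply, Pi.add_apply, Pi.smul_apply, mb, add_zero, hvb, smul_eq_mul]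
      exact add_self hF _
  have hwy : Wt2 (v + m + h5 (v + m) u • u) := by
    refine wt2_of_two_zero hF (hg.cj hF hyP).1 hab ?_ ?_
    · rw [hyu, Pi.add_apply, Pi.add_apply, Pi.smul_apply, ma, add_zero, hva, smul_eq_mul]
      exact add_self hF _
    · rw [hyu, Pi.add_apply, Pi.add_apply, Pi.smul_apply, mb, add_zero, hvb, smul_eq_mul]
      exact add_self hF _
  have hgx : s g * s x * s g = s (g * x * g) := good_wt2' S hw hζ hζc hζ3 hs hg hx hxwt
  have hq' : x * y * x = q := by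
    rw [hy, show x * (x * q * x) * x = (x * x) * q * (x * x) by group, hx.mul_self hF, one_mul, mul_one]
  have hsq : s q = s x * s y * s x := by
    rw [good_wt2 S hw hζ hζc hζ3 hs hx hyP hxwt, hq']
  have g2 := S.tt.sq _ (hs g u hg).1
  have hkey := good_wt2' S hw hζ hζc hζ3 hs (hg.cj hF hx) (hg.cj hF hyP) hwy
  calc s g * s q * s g = (s g * s x * s g) * (s g * s y * s g) * (s g * s x * s g) := by
        rw [hsq, show (s g * s x * s g) * (s g * s y * s g) * (s g * s x * s g) =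
          s g * s x * (s g * s g) * s y * (s g * s g) * s x * s g by group, g2, mul_one, mul_one]
        group
    _ = s (g * x * g * (g * y * g) * (g * x * g)) := by rw [hgx, hgy, hkey]
    _ = s (g * q * g) := by
        rw [← hq', show g * x * g * (g * y * g) * (g * x * g) = g * x * (g * g) * y * (g * g) * x * g by group,
          hg.mul_self hF, mul_one, mul_one]
        congr 1
        group

/-- The torus-fixed lifts are permuted by their conjugations. -/
theorem good_all {g q : SU5} {u v : V5} (hg : IsPt g u) (hq : IsPt q v) :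
    s g * s q * s g = s (g * q * g) := by
  have hF := S.field
  have := charTwo hF
  by_cases hc : h5 u v = 0
  · exact good_comm S hw hζ hζc hζ3 hs hg hq hc
  obtain ⟨i, hui⟩ := exists_zero hF hg.1
  obtain ⟨j, hvj⟩ := exists_zero hF hq.1
  by_cases huj : u j = 0
  · exact good_zero S hw hζ hζc hζ3 hs hg hq huj hvj
  by_cases hwu : ∃ k, k ≠ i ∧ u k = 0
  · obtain ⟨k, hki, huk⟩ := hwu
    exact good_wt2 S hw hζ hζc hζ3 hs hg hq (wt2_of_two_zero hF hg.1 hki huk hui)
  by_cases hwv : ∃ k, k ≠ j ∧ v k = 0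
  · obtain ⟨k, hkj, hvk⟩ := hwv
    exact good_wt2' S hw hζ hζc hζ3 hs hg hq (wt2_of_two_zero hF hq.1 hkj hvk hvj)
  push Not at hwu hwv
  have hij : i ≠ j := fun e => huj (e ▸ hui)
  obtain ⟨a, b, c, ⟨hia, hib, hic⟩, ⟨hja, hjb, hjc⟩, ⟨hab, hac, hbc⟩, hall⟩ := zero_exists_three i j hij
  have nu : ∀ k, k ≠ i → u k ≠ 0 := hwu
  have nv : ∀ k, k ≠ j → v k ≠ 0 := hwv
  have hsum : v a * u a ^ 2 + v b * u b ^ 2 + v c * u c ^ 2 ≠ 0 := by
    intro h0
    refine hc ((comm_zero hF).1 ?_)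
    show ∑ k, v k * u k ^ 2 = 0
    rw [show (Finset.univ : Finset (Fin 5)) = {i, j, a, b, c} by ext k; simpa using hall k,
      Finset.sum_insert (by simp [hij, hia, hib, hic]), Finset.sum_insert (by simp [hja, hjb, hjc]),
      Finset.sum_insert (by simp [hab, hac]), Finset.sum_insert (by simp [hbc]), Finset.sum_singleton, hui, hvj]
    linear_combination h0
  have p : ∀ k, k ≠ i → k ≠ j → v k * u k ^ 2 ≠ 0 := fun k h1 h2 =>
    mul_ne_zero (nv k h2) (pow_ne_zero 2 (nu k h1))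
  have heq : v a * u a ^ 2 = v b * u b ^ 2 ∨ v a * u a ^ 2 = v c * u c ^ 2 ∨ v b * u b ^ 2 = v c * u c ^ 2 := by
    obtain ⟨o, -, -, ho, hcases⟩ := exists_omega hF
    rcases hcases (v a * u a ^ 2) with h1 | h1 | h1 | h1 <;>
      rcases hcases (v b * u b ^ 2) with h2 | h2 | h2 | h2 <;>
        rcases hcases (v c * u c ^ 2) with h3 | h3 | h3 | h3 <;>
          first
            | exact absurd h1 (p a hia.symm hja.symm)
            | exact absurd h2 (p b hib.symm hjb.symm)
            | exact absurd h3 (p c hic.symm hjc.symm)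
            | exact Or.inl (h1.trans h2.symm)
            | exact Or.inr (Or.inl (h1.trans h3.symm))
            | exact Or.inr (Or.inr (h2.trans h3.symm))
            | exact absurd (by rw [h1, h2, h3]; linear_combination ho) hsum
  rcases heq with h | h | h
  · exact good_main S hw hζ hζc hζ3 hs hg hq hij hia hib hic hja hjb hjc hab hac hbc hall hui huj
      (nu a hia.symm) (nu b hib.symm) (nu c hic.symm) hvj (nv c hjc.symm) h (nv a hja.symm)
  · exact good_main S hw hζ hζc hζ3 hs hg hq hij hia hic hib hja hjc hjb hac hab hbc.symm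
      (fun k => by rcases hall k with h | h | h | h | h <;> tauto) hui huj (nu a hia.symm) (nu c hic.symm)
      (nu b hib.symm) hvj (nv b hjb.symm) h (nv a hja.symm)
  · exact good_main S hw hζ hζc hζ3 hs hg hq hij hib hic hia hjb hjc hja hbc hab.symm hac.symm
      (fun k => by rcases hall k with h | h | h | h | h <;> tauto) hui huj (nu b hib.symm) (nu c hic.symm)
      (nu a hia.symm) hvj (nv a hja.symm) h (nv b hjb.symm)

omit hw hζ hζc hζ3 hs

/-- The kernel has a complement. -/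
theorem exists_complement : ∃ K : Subgroup G, pr.ker.IsComplement' K := by
  have hF := S.field
  obtain ⟨w, -, hw⟩ := exists_omega' hF
  obtain ⟨ζ, hζ, hζc, hζ3⟩ := exists_torus S hw
  obtain ⟨s, hs⟩ := exists_section S hw hζ hζc hζ3
  set Pts : Set SU5 := {x | ∃ u, IsPt x u} with hPts
  set K := Subgroup.closure (s '' Pts) with hK
  have hequi : ∀ k ∈ K, ∀ x u, IsPt x u → k * s x * k⁻¹ = s (pr k * x * (pr k)⁻¹) := by
    intro k hk
    refine Subgroup.closure_induction
      (p := fun k _ => ∀ x u, IsPt x u → k * s x * k⁻¹ = s (pr k * x * (pr k)⁻¹)) ?_ ?_ ?_ ?_ hk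
    · rintro _ ⟨g, ⟨ug, hg⟩, rfl⟩ x u hx
      rw [S.tt.inv_eq (hs g ug hg).1, (hs g ug hg).2.1, hg.inv_eq hF]
      exact good_all S hw hζ hζc hζ3 hs hg hx
    · intro x u _; simp
    · intro a b _ _ ha hb x u hx
      rw [show a * b * s x * (a * b)⁻¹ = a * (b * s x * b⁻¹) * a⁻¹ by group, hb x u hx,
        ha _ _ (hx.conj (pr b)), map_mul]
      congr 1
      group
    · intro a _ ha x u hx
      have h := ha _ _ (hx.conj (pr a)⁻¹)
      rw [show pr a * ((pr a)⁻¹ * x * (pr a)⁻¹⁻¹) * (pr a)⁻¹ = x by group] at h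
      rw [map_inv, ← h]
      group
  refine ⟨K, Subgroup.isComplement'_of_disjoint_and_mul_eq_univ ?_ ?_⟩
  · rw [Subgroup.disjoint_def]
    intro k hkV hkK
    have hk1 : pr k = 1 := hkV
    have hc : k ∈ Subgroup.center G := by
      rw [Subgroup.mem_center_iff]
      intro g
      have hg : g ∈ Subgroup.centralizer {k} := by
        refine (Subgroup.closure_le _).2 ?_ (S.gen.symm ▸ Subgroup.mem_top g)
        intro d hd
        obtain ⟨u, hu⟩ := S.pt d hd
        obtain ⟨hsD, hsp, -⟩ := hs _ _ hu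
        refine Subgroup.mem_centralizer_singleton_iff.2 (Commute.eq ?_)
        have h1 := hequi k hkK _ _ hu
        rw [hk1, one_mul, inv_one, mul_one] at h1
        have h1' : Commute k (s (pr d)) := mul_inv_eq_iff_eq_mul.1 h1
        have hm : pr (s (pr d) * d) = 1 := by rw [map_mul, hsp, ← map_mul, S.tt.sq d hd, map_one]
        have h2 := h1'.mul_right (show Commute k (s (pr d) * d) from S.ker_comm hk1 hm)
        rw [← mul_assoc, S.tt.sq _ hsD, one_mul] at h2
        exact h2.symm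
      exact Subgroup.mem_centralizer_singleton_iff.1 hg
    rwa [S.center, Subgroup.mem_bot] at hc
  · refine Set.eq_univ_of_forall fun g => ?_
    have htop : K.map pr = ⊤ := by
      rw [eq_top_iff, ← S.pts_generate, Subgroup.closure_le]
      rintro x ⟨u, hx⟩
      exact ⟨s x, Subgroup.subset_closure ⟨x, ⟨u, hx⟩, rfl⟩, (hs x u hx).2.1⟩
    obtain ⟨k, hk, hkg⟩ : pr g ∈ K.map pr := htop ▸ Subgroup.mem_top _
    exact ⟨g * k⁻¹, show pr (g * k⁻¹) = 1 by rw [map_mul, map_inv, hkg, mul_inv_cancel], k, hk,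
      by simp⟩

end CfsgLib.SURadical
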